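import Groth.Agent.Fano.K188.LineRing
import Groth.Agent.Fano.K714.ConeMain
import Groth.Agent.Fano.K714.HomDim
import Groth.Agent.Fano.K714.Zeros

/-!
# Job LF of S16938: the algebra of the cone of lines through a point of a hypersurface
-/

set_option autoImplicit false

universe u

open MvPolynomial

namespace K105.ConeDim

open K188.LineDef K188.LineRing

variable {k : Type u} [Field k] {n d : ℕ}

section Coeff

variable {A : Type u} [CommRing A]

theorem isHomogeneous_lin (v c : Fin (n + 1) → A) (a : Fin (n + 1)) : (lin v c a).IsHomogeneous 1 := by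
  unfold lin
  have h1 := (isHomogeneous_C (Fin 2) (v a)).mul (isHomogeneous_X A (0 : Fin 2))
  have h2 := (isHomogeneous_C (Fin 2) (c a)).mul (isHomogeneous_X A (1 : Fin 2))
  rw [zero_add] at h1 h2
  exact h1.add h2

theorem isHomogeneous_restr (φ : k →+* A) (G : LefPen.Form n k d) (v c : Fin (n + 1) → A) :
    (restr φ G v c).IsHomogeneous d := by
  have h1 := ((mem_homogeneousSubmodule _ _).1 G.2).eval₂ (C.comp φ) (lin v c)
    (fun r => isHomogeneous_C _ _) (isHomogeneous_lin v c)
  rwa [one_mul] at h1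

/-- The exponent `(d - 1 - l, l + 1)`. -/
noncomputable def ex (d : ℕ) (l : ℕ) : Fin 2 →₀ ℕ := Finsupp.single 0 (d - 1 - l) + Finsupp.single 1 (l + 1)

theorem degree_fin2 (e : Fin 2 →₀ ℕ) : e.degree = e 0 + e 1 := by
  rw [Finsupp.degree_eq_sum, Fin.sum_univ_two]

theorem coeff_restr_eq_zero (φ : k →+* A) (G : LefPen.Form n k d) (v c : Fin (n + 1) → A) (e : Fin 2 →₀ ℕ)
    (he : e 0 + e 1 ≠ d) : coeff e (restr φ G v c) = 0 :=
  (isHomogeneous_restr φ G v c).coeff_eq_zero (by rwa [degree_fin2])

theorem eq_single_or_ex (e : Fin 2 →₀ ℕ) (he : e 0 + e 1 = d) :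
    e = Finsupp.single 0 d ∨ ∃ l : Fin d, e = ex d l := by
  by_cases h : e 1 = 0
  · left
    ext a
    fin_cases a
    · simp; omega
    · simp [h]
  · right
    refine ⟨⟨e 1 - 1, by omega⟩, ?_⟩
    ext a
    fin_cases a
    · simp [ex]; omega
    · simp [ex]; omega

theorem coeff_single_restr (φ : k →+* A) (G : LefPen.Form n k d) (v c : Fin (n + 1) → A) :
    coeff (Finsupp.single 0 d) (restr φ G v c) = eval₂ φ v G.1 := by
  rw [← eval_restr φ G v c, eval_eq']
  have h1 : ∀ e ∈ (restr φ G v c).support, e ≠ Finsupp.single 0 d →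
      coeff e (restr φ G v c) * ∏ i : Fin 2, (![1, 0] : Fin 2 → A) i ^ e i = 0 := by
    intro e he hne
    have h2 : e 0 + e 1 = d := by
      by_contra h
      exact (mem_support_iff.1 he) (coeff_restr_eq_zero φ G v c e h)
    have h3 : e 1 ≠ 0 := by
      intro h
      apply hne
      ext a
      fin_cases a
      · simp; omega
      · simp [h]
    rw [Fin.prod_univ_two]
    simp [h3]
  by_cases hs : Finsupp.single 0 d ∈ (restr φ G v c).support
  · rw [Finset.sum_eq_single_of_mem _ hs h1]
    rw [Fin.prod_univ_two]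
    simp
  · rw [notMem_support_iff.1 hs]
    symm
    refine Finset.sum_eq_zero fun e he => h1 e he ?_
    rintro rfl
    exact hs he

end Coeff

/-- The forms cutting out the cone. -/
noncomputable def gg (G : LefPen.Form n k d) (v : Fin (n + 1) → k) (l : Fin d) : MvPolynomial (Fin (n + 1)) k :=
  coeff (ex d l) (restr C G (fun a => C (v a)) X)

theorem isHomogeneous_coeff_eval₂ (v : Fin (n + 1) → k) (G : MvPolynomial (Fin (n + 1)) k) (e : Fin 2 →₀ ℕ) :
    (coeff e (eval₂ (C.comp C) (lin (fun a => (C (v a) : MvPolynomial (Fin (n + 1)) k)) X) G)).IsHomogeneous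
      (e 1) := by
  classical
  induction G using MvPolynomial.induction_on generalizing e with
  | C r =>
    rw [eval₂_C, RingHom.comp_apply, coeff_C]
    split_ifs with h
    · subst h
      exact isHomogeneous_C _ _
    · exact isHomogeneous_zero _ _ _
  | add p q hp hq =>
    rw [eval₂_add, coeff_add]
    exact (hp e).add (hq e)
  | mul_X p a hp =>
    rw [eval₂_mul, eval₂_X, coeff_mul]
    refine IsHomogeneous.sum _ _ _ fun x hx => ?_
    rw [Finset.mem_antidiagonal] at hx
    have h1 : (coeff x.2 (lin (fun a => (C (v a) : MvPolynomial (Fin (n + 1)) k)) X a)).IsHomogeneous (x.2 1) := by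
      rw [lin, coeff_add, coeff_C_mul, coeff_C_mul, coeff_X, coeff_X]
      refine IsHomogeneous.add ?_ ?_
      · split_ifs with h
        · rw [← h, mul_one]
          simpa using isHomogeneous_C _ (v a)
        · rw [mul_zero]; exact isHomogeneous_zero _ _ _
      · split_ifs with h
        · rw [← h, mul_one]
          simpa using isHomogeneous_X k a
        · rw [mul_zero]; exact isHomogeneous_zero _ _ _
    have h2 := (hp x.1).mul h1
    rwa [← Finsupp.add_apply, hx] at h2

theorem isHomogeneous_gg (G : LefPen.Form n k d) (v : Fin (n + 1) → k) (l : Fin d) :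
    (gg G v l).IsHomogeneous (l.1 + 1) := by
  have h := isHomogeneous_coeff_eval₂ v G.1 (ex d l)
  have h1 : (ex d l.1) 1 = l.1 + 1 := by simp [ex]
  rwa [h1] at h

theorem range_coeff (G : LefPen.Form n k d) (v : Fin (n + 1) → k) (h0 : eval v G.1 = 0) (s : Set _) :
    Ideal.span (s ∪ Set.range fun e : Fin 2 →₀ ℕ => coeff e (restr C G (fun a => C (v a)) X)) =
      Ideal.span (s ∪ Set.range (gg G v)) := by
  refine le_antisymm ?_ (Ideal.span_mono ?_)
  · rw [Ideal.span_le]
    rintro p (hp | ⟨e, rfl⟩)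
    · exact Ideal.subset_span (Or.inl hp)
    · by_cases he : e 0 + e 1 = d
      · rcases eq_single_or_ex e he with rfl | ⟨l, rfl⟩
        · have h1 : coeff (Finsupp.single 0 d) (restr C G (fun a => C (v a)) X) =
              (0 : MvPolynomial (Fin (n + 1)) k) := by
            rw [coeff_single_restr]
            have h2 : eval₂ (C : k →+* MvPolynomial (Fin (n + 1)) k) (fun a => C (v a)) G.1 = C (eval v G.1) := by
              rw [← coe_eval₂Hom]
              exact (congrFun (congrArg DFunLike.coe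
                (MvPolynomial.ringHom_ext (f := eval₂Hom C (fun a => C (v a)))
                  (g := (C : k →+* MvPolynomial (Fin (n + 1)) k).comp (eval v))
                  (fun r => by simp) (fun a => by simp))) G.1)
            rw [h2, h0, map_zero]
          change coeff (Finsupp.single 0 d) _ ∈ _
          rw [h1]
          exact zero_mem _
        · exact Ideal.subset_span (Or.inr ⟨l, rfl⟩)
      · change coeff e _ ∈ _
        rw [coeff_restr_eq_zero _ _ _ _ e he]
        exact zero_mem _
  · refine Set.union_subset_union_right _ ?_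
    rintro _ ⟨l, rfl⟩
    exact ⟨_, rfl⟩

theorem coneIdeal_eq (G : LefPen.Form n k d) (i : Fin (n + 1)) (v : Fin (n + 1) → k) (h0 : eval v G.1 = 0) :
    coneIdeal G i v = Ideal.span ({X i} ∪ Set.range (gg G v)) := range_coeff G v h0 _

theorem FIdeal_eq (G : LefPen.Form n k d) (i j : Fin (n + 1)) (v : Fin (n + 1) → k) (h0 : eval v G.1 = 0) :
    FIdeal G i j v = Ideal.span ({X i, X j - 1} ∪ Set.range (gg G v)) := range_coeff G v h0 _

/-- Node F4. -/
theorem exists_nontrivial_FRing (G : LefPen.Form n k d) [IsAlgClosed k] (hd : 1 ≤ d) (hdn : d + 3 ≤ n) (i : Fin (n + 1))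
    (v : Fin (n + 1) → k) (hv : v i = 1) (h0 : MvPolynomial.eval v G.1 = 0) :
    ∃ j : Fin (n + 1), i ≠ j ∧ Nontrivial (FRing G i j v) := by
  obtain ⟨c, hc, hc'⟩ := K714.Zeros.exists_ne_zero (k := k) (N := n + 1) (ι := Option (Fin d))
    (by rw [Fintype.card_option, Fintype.card_fin]; omega)
    (fun o => o.elim 1 (fun l => l.1 + 1)) (by rintro (_ | l) <;> simp)
    (fun o => o.elim (X i) (gg G v)) (by
      rintro (_ | l)
      · exact isHomogeneous_X _ _
      · exact isHomogeneous_gg G v l)
  have hci : c i = 0 := by simpa using hc' none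
  obtain ⟨j, hj⟩ := Function.ne_iff.1 hc
  rw [Pi.zero_apply] at hj
  have hij : i ≠ j := by
    rintro rfl
    exact hj hci
  refine ⟨j, hij, ?_⟩
  rw [Ideal.Quotient.nontrivial_iff]
  intro htop
  have h1 : FIdeal G i j v ≤ RingHom.ker (eval ((c j)⁻¹ • c)) := by
    rw [FIdeal_eq G i j v h0, Ideal.span_le]
    rintro p ((rfl | hp) | ⟨l, rfl⟩)
    · simp [hci]
    · rw [Set.mem_singleton_iff] at hp
      subst hp
      simp [hj]
    · change eval ((c j)⁻¹ • c) (gg G v l) = 0
      rw [Groth.Agent.Lefpen.H703.Elim.eval_smul_of_isHomogeneous (isHomogeneous_gg G v l)]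
      have h2 : eval c (gg G v l) = 0 := hc' (some l)
      rw [h2, mul_zero]
  rw [htop, top_le_iff] at h1
  exact RingHom.ker_ne_top _ h1

section Dim

variable (G : LefPen.Form n k d)

theorem isHomogeneous_coneIdeal (i : Fin (n + 1)) (v : Fin (n + 1) → k) (h0 : eval v G.1 = 0) :
    (coneIdeal G i v).IsHomogeneous (CohB1.polyGrading n k) := by
  rw [coneIdeal_eq G i v h0]
  refine Ideal.homogeneous_span _ _ ?_
  rintro p (hp | ⟨l, rfl⟩)
  · rw [Set.mem_singleton_iff] at hp
    subst hp
    exact ⟨1, (mem_homogeneousSubmodule _ _).2 (isHomogeneous_X _ _)⟩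
  · exact ⟨l.1 + 1, (mem_homogeneousSubmodule _ _).2 (isHomogeneous_gg G v l)⟩

theorem coneIdeal_le_FIdeal (i j : Fin (n + 1)) (v : Fin (n + 1) → k) : coneIdeal G i v ≤ FIdeal G i j v := by
  refine Ideal.span_mono (Set.union_subset_union_left _ ?_)
  rw [Set.singleton_subset_iff]
  exact Set.mem_insert _ _

/-- Node F3. -/
theorem ringKrullDim_FRing [IsAlgClosed k] (hG : Good G) (hd : 1 ≤ d) (hdn : d + 3 ≤ n) (i j : Fin (n + 1))
    (hij : i ≠ j) (v : Fin (n + 1) → k) (hv : v i = 1) (h0 : MvPolynomial.eval v G.1 = 0)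
    (hne : Nontrivial (FRing G i j v)) : ringKrullDim (FRing G i j v) = ((n - d - 1 : ℕ) : WithBot ℕ∞) := by
  refine le_antisymm ?_ ?_
  · rw [K714.HomDim.ringKrullDim_quotient_le_iff]
    intro P hP
    have hPp : P.IsPrime := hP.1.1
    set Q : Ideal (MvPolynomial (Fin (n + 1)) k) := (P.homogeneousCore (CohB1.polyGrading n k)).toIdeal with hQ
    have hQp : Q.IsPrime := hPp.homogeneousCore (𝒜 := CohB1.polyGrading n k)
    have hQP : Q ≤ P := Ideal.toIdeal_homogeneousCore_le _ _
    have hcQ : coneIdeal G i v ≤ Q := by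
      rw [← (isHomogeneous_coneIdeal G i v h0).toIdeal_homogeneousCore_eq_self]
      exact Ideal.homogeneousCore_mono _ ((coneIdeal_le_FIdeal G i j v).trans hP.1.2)
    have hlt : Q < P := by
      refine lt_of_le_of_ne hQP ?_
      intro h
      have h1 : (X j - 1 : MvPolynomial (Fin (n + 1)) k) ∈ Q := by
        rw [h]
        exact hP.1.2 (Ideal.subset_span (Or.inl (by simp)))
      have hQh : Q.IsHomogeneous (CohB1.polyGrading n k) :=
        (P.homogeneousCore (CohB1.polyGrading n k)).isHomogeneous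
      have h2 := K714.HomDim.homogeneousComponent_mem hQh h1 0
      have h3 : homogeneousComponent 0 (X j - 1 : MvPolynomial (Fin (n + 1)) k) = -1 := by
        rw [map_sub, homogeneousComponent_zero, homogeneousComponent_zero]
        simp
      rw [h3] at h2
      exact hQp.ne_top ((Ideal.eq_top_iff_one _).2 (by simpa using Q.neg_mem h2))
    obtain ⟨d', h', hd', -, hh', had'⟩ := K714.DimMv.exists_nat_dim P
    obtain ⟨d'', h'', hd'', -, hh'', had''⟩ := K714.DimMv.exists_nat_dim Q
    rw [hd']
    have h1 : ringKrullDim (MvPolynomial (Fin (n + 1)) k ⧸ Q) ≤ ((n - d : ℕ) : WithBot ℕ∞) :=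
      (ringKrullDim_le_of_surjective (Ideal.Quotient.factor hcQ) (Ideal.Quotient.factor_surjective hcQ)).trans
        (hG i v hv h0)
    rw [hd''] at h1
    have h2 : d'' ≤ n - d := by exact_mod_cast h1
    rw [Nat.card_eq_fintype_card, Fintype.card_fin] at had' had''
    have h3 : Q.height + 1 ≤ P.height := Ideal.height_add_one_le_of_lt_of_isPrime hlt
    rw [hh', hh''] at h3
    have h4 : h'' + 1 ≤ h' := by exact_mod_cast h3
    have h5 : d' ≤ n - d - 1 := by omega
    exact_mod_cast h5
  · have hne' : FIdeal G i j v ≠ ⊤ := Ideal.Quotient.nontrivial_iff.1 hne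
    obtain ⟨P, hP⟩ := Ideal.nonempty_minimalPrimes hne'
    have hPp : P.IsPrime := hP.1.1
    obtain ⟨d', h', hd', -, hh', had'⟩ := K714.DimMv.exists_nat_dim P
    rw [Nat.card_eq_fintype_card, Fintype.card_fin] at had'
    have hfin : ({X i, X j - 1} ∪ Set.range (gg G v) : Set (MvPolynomial (Fin (n + 1)) k)).Finite :=
      (Set.toFinite _).union (Set.finite_range _)
    have hP' := hP
    rw [FIdeal_eq G i j v h0] at hP'
    have h1 := Ideal.height_le_card_of_mem_minimalPrimes_span hfin hP'
    have h2 : ({X i, X j - 1} ∪ Set.range (gg G v) : Set (MvPolynomial (Fin (n + 1)) k)).ncard ≤ 2 + d := by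
      refine (Set.ncard_union_le _ _).trans (add_le_add ?_ ?_)
      · exact Set.ncard_insert_le _ _ |>.trans (by simp)
      · have h3 := Finite.card_range_le (gg G v)
        rwa [Nat.card_coe_set_eq, Nat.card_eq_fintype_card, Fintype.card_fin] at h3
    rw [hh'] at h1
    have h4 : h' ≤ 2 + d := by
      have : h' ≤ ({X i, X j - 1} ∪ Set.range (gg G v) : Set (MvPolynomial (Fin (n + 1)) k)).ncard := by
        exact_mod_cast h1
      omega
    have h5 : n - d - 1 ≤ d' := by omega
    calc ((n - d - 1 : ℕ) : WithBot ℕ∞) ≤ (d' : WithBot ℕ∞) := by exact_mod_cast h5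
      _ = ringKrullDim (MvPolynomial (Fin (n + 1)) k ⧸ P) := hd'.symm
      _ ≤ _ := ringKrullDim_le_of_surjective (Ideal.Quotient.factor hP.1.2) (Ideal.Quotient.factor_surjective hP.1.2)

end Dim

section Pushout

open CategoryTheory CategoryTheory.Limits AlgebraicGeometry

variable (G : LefPen.Form n k d)

theorem ringHom_ext_FRing {B : Type u} [CommRing B] {i j : Fin (n + 1)} {v : Fin (n + 1) → k}
    {f g : FRing G i j v →+* B} (h1 : f.comp (algebraMap k _) = g.comp (algebraMap k _))
    (h2 : ∀ a, f (Ideal.Quotient.mk _ (X a)) = g (Ideal.Quotient.mk _ (X a))) : f = g := by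
  refine Ideal.Quotient.ringHom_ext (MvPolynomial.ringHom_ext (fun r => ?_) h2)
  exact RingHom.congr_fun h1 r

theorem exists_desc {B : Type u} [CommRing B] (i j : Fin (n + 1)) (v : Fin (n + 1) → k) (hv : v i = 1)
    (h0 : eval v G.1 = 0) (f : RRing G i j →+* B) (g : k →+* B)
    (h : f.comp (toR G i j).toRingHom = g.comp (evA G i v hv h0).toRingHom) :
    ∃ l : FRing G i j v →+* B, l.comp (toF G i j v hv).toRingHom = f ∧ l.comp (algebraMap k _) = g := by
  have hk : ∀ r : k, f (algebraMap k _ r) = g r := by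
    intro r
    have h1 := RingHom.congr_fun h (algebraMap k _ r)
    simp only [RingHom.comp_apply, AlgHom.toRingHom_eq_coe, RingHom.coe_coe, AlgHom.commutes] at h1
    exact h1
  have hvv : ∀ a, f (Ideal.Quotient.mk _ (vv k n a)) = g (v a) := by
    intro a
    have h1 := RingHom.congr_fun h (Ideal.Quotient.mk _ (X a))
    have h2 : (toR G i j) (Ideal.Quotient.mk _ (X a)) = Ideal.Quotient.mk _ (vv k n a) := by
      change Ideal.Quotient.mk _ (rename Sum.inl (X a)) = _
      rw [rename_X]
    have h3 : (evA G i v hv h0) (Ideal.Quotient.mk _ (X a)) = v a := by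
      change aeval v (X a) = v a
      rw [aeval_X]
    simp only [RingHom.comp_apply, AlgHom.toRingHom_eq_coe, RingHom.coe_coe, h2, h3] at h1
    exact h1
  let c : Fin (n + 1) → B := fun a => f (Ideal.Quotient.mk _ (cc k n a))
  let l₀ : MvPolynomial (Fin (n + 1)) k →+* B := eval₂Hom g c
  have hsub : l₀.comp (sub v).toRingHom = f.comp (Ideal.Quotient.mk _) := by
    refine MvPolynomial.ringHom_ext (fun r => ?_) ?_
    · simp only [RingHom.comp_apply, AlgHom.toRingHom_eq_coe, RingHom.coe_coe, l₀]
      rw [← MvPolynomial.algebraMap_eq, AlgHom.commutes, MvPolynomial.algebraMap_eq, coe_eval₂Hom, eval₂_C]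
      exact (hk r).symm
    · rintro (a | a)
      · simp only [RingHom.comp_apply, AlgHom.toRingHom_eq_coe, RingHom.coe_coe, l₀, sub, aeval_X, Sum.elim_inl,
          coe_eval₂Hom, eval₂_C]
        exact (hvv a).symm
      · simp only [RingHom.comp_apply, AlgHom.toRingHom_eq_coe, RingHom.coe_coe, l₀, sub, aeval_X, Sum.elim_inr,
          coe_eval₂Hom, eval₂_X]
        rfl
  have hker : ∀ p ∈ FIdeal G i j v, l₀ p = 0 := by
    have h1 : FIdeal G i j v ≤ RingHom.ker l₀ := by
      rw [FIdeal, Ideal.span_le]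
      rintro p ((rfl | hp) | ⟨e, rfl⟩)
      · change l₀ (X i) = 0
        have h2 : cc k n i ∈ RIdeal G i j := Ideal.subset_span (Or.inl (by simp))
        simp only [l₀, coe_eval₂Hom, eval₂_X, c]
        rw [Ideal.Quotient.eq_zero_iff_mem.2 h2, map_zero]
      · rw [Set.mem_singleton_iff] at hp
        subst hp
        change l₀ (X j - 1) = 0
        rw [map_sub, map_one]
        simp only [l₀, coe_eval₂Hom, eval₂_X, c]
        have h2 : (Ideal.Quotient.mk (RIdeal G i j)) (cc k n j - 1) = 0 :=
          Ideal.Quotient.eq_zero_iff_mem.2 (Ideal.subset_span (Or.inl (by simp)))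
        rw [map_sub, map_one, sub_eq_zero] at h2
        rw [h2, map_one, sub_self]
      · change l₀ (coeff e (restr C G (fun a => C (v a)) X)) = 0
        rw [← sub_coeff]
        have h2 := RingHom.congr_fun hsub (coeff e (restr C G (vv k n) (cc k n)))
        simp only [RingHom.comp_apply, AlgHom.toRingHom_eq_coe, RingHom.coe_coe] at h2
        have h3 : coeff e (restr C G (vv k n) (cc k n)) ∈ RIdeal G i j := Ideal.subset_span (Or.inr ⟨e, rfl⟩)
        rw [h2, Ideal.Quotient.eq_zero_iff_mem.2 h3, map_zero]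
    intro p hp
    exact h1 hp
  refine ⟨Ideal.Quotient.lift _ l₀ hker, ?_, ?_⟩
  · refine Ideal.Quotient.ringHom_ext ?_
    refine RingHom.ext fun p => ?_
    exact RingHom.congr_fun hsub p
  · refine RingHom.ext fun r => ?_
    change l₀ (algebraMap k _ r) = g r
    simp only [l₀, MvPolynomial.algebraMap_eq, coe_eval₂Hom, eval₂_C]

/-- Node F5. -/
theorem isPullback_FRing (i j : Fin (n + 1)) (v : Fin (n + 1) → k) (hv : v i = 1)
    (h0 : MvPolynomial.eval v G.1 = 0) :
    IsPullback (Spec.map (CommRingCat.ofHom (toF G i j v hv).toRingHom))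
      (Spec.map (CommRingCat.ofHom (algebraMap k (FRing G i j v))))
      (Spec.map (CommRingCat.ofHom (toR G i j).toRingHom))
      (Spec.map (CommRingCat.ofHom (evA G i v hv h0).toRingHom)) := by
  have hw : (toF G i j v hv).toRingHom.comp (toR G i j).toRingHom =
      (algebraMap k (FRing G i j v)).comp (evA G i v hv h0).toRingHom := by
    refine Ideal.Quotient.ringHom_ext (MvPolynomial.ringHom_ext (fun r => ?_) fun a => ?_)
    · simp only [RingHom.comp_apply, AlgHom.toRingHom_eq_coe, RingHom.coe_coe]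
      have h1 : (Ideal.Quotient.mk (AIdeal G i)) (C r) = algebraMap k _ r := rfl
      rw [h1, AlgHom.commutes, AlgHom.commutes, AlgHom.commutes]
      rfl
    · simp only [RingHom.comp_apply, AlgHom.toRingHom_eq_coe, RingHom.coe_coe]
      have h2 : (toR G i j) (Ideal.Quotient.mk _ (X a)) = Ideal.Quotient.mk _ (vv k n a) := by
        change Ideal.Quotient.mk _ (rename Sum.inl (X a)) = _
        rw [rename_X]
      have h3 : (evA G i v hv h0) (Ideal.Quotient.mk _ (X a)) = v a := by
        change aeval v (X a) = v a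
        rw [aeval_X]
      rw [h2, h3]
      change Ideal.Quotient.mk _ (sub v (vv k n a)) = _
      rw [sub, aeval_X, Sum.elim_inl]
      rfl
  have hpo : IsPushout (CommRingCat.ofHom (toR G i j).toRingHom) (CommRingCat.ofHom (evA G i v hv h0).toRingHom)
      (CommRingCat.ofHom (toF G i j v hv).toRingHom) (CommRingCat.ofHom (algebraMap k (FRing G i j v))) := by
    refine ⟨⟨?_⟩, ⟨PushoutCocone.IsColimit.mk _ (fun s => ?_) (fun s => ?_) (fun s => ?_) fun s l h1 h2 => ?_⟩⟩
    · rw [← CommRingCat.ofHom_comp, ← CommRingCat.ofHom_comp, hw]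
    · exact CommRingCat.ofHom (exists_desc G i j v hv h0 s.inl.hom s.inr.hom
        (by simpa using congrArg CommRingCat.Hom.hom s.condition)).choose
    · refine CommRingCat.hom_ext ?_
      exact (exists_desc G i j v hv h0 s.inl.hom s.inr.hom
        (by simpa using congrArg CommRingCat.Hom.hom s.condition)).choose_spec.1
    · refine CommRingCat.hom_ext ?_
      exact (exists_desc G i j v hv h0 s.inl.hom s.inr.hom
        (by simpa using congrArg CommRingCat.Hom.hom s.condition)).choose_spec.2
    · refine CommRingCat.hom_ext (ringHom_ext_FRing G ?_ ?_)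
      · have h3 := (exists_desc G i j v hv h0 s.inl.hom s.inr.hom
          (by simpa using congrArg CommRingCat.Hom.hom s.condition)).choose_spec.2
        refine Eq.trans ?_ h3.symm
        exact congrArg CommRingCat.Hom.hom h2
      · intro a
        have h3 := (exists_desc G i j v hv h0 s.inl.hom s.inr.hom
          (by simpa using congrArg CommRingCat.Hom.hom s.condition)).choose_spec.1
        have h4 : (toF G i j v hv) (Ideal.Quotient.mk _ (cc k n a)) = Ideal.Quotient.mk _ (X a) := by
          change Ideal.Quotient.mk _ (sub v (cc k n a)) = _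
          rw [sub, aeval_X, Sum.elim_inr]
        rw [← h4]
        have h5 := RingHom.congr_fun (congrArg CommRingCat.Hom.hom h1) (Ideal.Quotient.mk _ (cc k n a))
        have h6 := RingHom.congr_fun h3 (Ideal.Quotient.mk _ (cc k n a))
        exact h5.trans h6.symm
  exact isPullback_SpecMap_of_isPushout _ _ _ _ hpo

end Pushout

section Generic

open LefPen Groth.Agent.Lefpen.H703.ZOpen Groth.Agent.Lefpen.H703.NondegOpen K714.Codim K714.HypSeq K714.Taylor
  K714.Cone K714.ConeMain

theorem eval₂_mul_of_isHomogeneous {σ : Type*} [Fintype σ] {R : Type*} [CommRing R] (φ : k →+* R) (c : σ → R)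
    (x : R) {F : MvPolynomial σ k} {N : ℕ} (hF : F.IsHomogeneous N) :
    eval₂ φ (fun l => c l * x) F = eval₂ φ c F * x ^ N := by
  rw [eval₂_eq', eval₂_eq', Finset.sum_mul]
  refine Finset.sum_congr rfl fun e he => ?_
  have h1 : ∑ i, e i = N := by
    have h2 := hF (mem_support_iff.1 he)
    rw [Finsupp.weight_apply, Finsupp.sum_fintype] at h2
    · simpa using h2
    · simp
  simp only [mul_pow]
  rw [Finset.prod_mul_distrib, Finset.prod_pow_eq_pow_sum, h1, mul_assoc]

/-- The Taylor coefficients lie in the ideal of the cone. -/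
theorem mem_coneIdeal {m : ℕ} (i : Fin (m + 2)) (v : Fin (m + 2) → k) (hv : v i = 1)
    (Φ : Form (m + 1) k d) (p : k × Sq k m d) (hp1 : p.1 = 0)
    (hp : T i (fun l => v (i.succAbove l)) p = Φ.1) (j : Fin d) :
    rename i.succAbove (p.2 j).1 ∈ coneIdeal Φ i v := by
  classical
  let B := MvPolynomial (Fin (m + 1 + 1)) k ⧸ coneIdeal Φ i v
  let π : MvPolynomial (Fin (m + 1 + 1)) k →+* B := Ideal.Quotient.mk _
  have hπ : ∀ {x}, x ∈ coneIdeal Φ i v → π x = 0 := fun {x} hx => Ideal.Quotient.eq_zero_iff_mem.2 hx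
  let c : Fin (m + 1 + 1) → B := fun a => π (X a)
  let φ : k →+* B := π.comp C
  have hci : c i = 0 := hπ (Ideal.subset_span (Or.inl rfl))
  have h0 : restr φ Φ (fun a => φ (v a)) c = 0 := by
    have h1 := map_restr C π Φ (fun a => C (v a)) X
    have h2 : (π ∘ fun a => (C (v a) : MvPolynomial (Fin (m + 1 + 1)) k)) = fun a => φ (v a) := rfl
    have h3 : (π ∘ (X : Fin (m + 1 + 1) → MvPolynomial (Fin (m + 1 + 1)) k)) = c := rfl
    rw [h2, h3] at h1
    rw [← show restr (π.comp C) Φ (fun a => φ (v a)) c = restr φ Φ (fun a => φ (v a)) c from rfl, ← h1]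
    ext e
    rw [coeff_map, coeff_zero]
    exact hπ (Ideal.subset_span (Or.inr ⟨e, rfl⟩))
  -- the substitution
  let Ψ : MvPolynomial (Fin (m + 1 + 1)) k →+* MvPolynomial (Fin 2) B :=
    eval₂Hom (C.comp φ) (K188.LineDef.lin (fun a => φ (v a)) c)
  have hΨ : Ψ Φ.1 = 0 := h0
  have hΨi : Ψ (X i) = X 0 := by
    simp [Ψ, K188.LineDef.lin, hci, hv]
  have hΨl : ∀ l, Ψ (K714.Taylor.lin i (fun l => v (i.succAbove l)) l) = C (c (i.succAbove l)) * X 1 := by
    intro l
    rw [K714.Taylor.lin, map_sub, map_mul, hΨi]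
    simp only [Ψ, K188.LineDef.lin, coe_eval₂Hom, eval₂_X, eval₂_C, RingHom.comp_apply]
    ring
  have hΨF : ∀ j : Fin d, Ψ (aeval (K714.Taylor.lin i (fun l => v (i.succAbove l))) (p.2 j).1) =
      C (π (rename i.succAbove (p.2 j).1)) * X 1 ^ (j.1 + 1) := by
    intro j
    have h1 : Ψ (aeval (K714.Taylor.lin i (fun l => v (i.succAbove l))) (p.2 j).1) =
        eval₂ (C.comp φ) (fun l => C (c (i.succAbove l)) * X 1) (p.2 j).1 := by
      rw [aeval_def, MvPolynomial.algebraMap_eq]
      have h2 := eval₂_comp_left Ψ (C : k →+* _) (K714.Taylor.lin i (fun l => v (i.succAbove l))) (p.2 j).1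
      rw [h2]
      congr 1
      · ext r
        simp [Ψ]
      · funext l
        exact hΨl l
    rw [h1, eval₂_mul_of_isHomogeneous (C.comp φ) (fun l => (C (c (i.succAbove l)) : MvPolynomial (Fin 2) B)) (X 1)
      ((mem_homogeneousSubmodule _ _).1 (p.2 j).2)]
    congr 1
    have h2 := eval₂_comp_left (C : B →+* MvPolynomial (Fin 2) B) φ (fun l => c (i.succAbove l)) (p.2 j).1
    have h3 : (fun l => (C (c (i.succAbove l)) : MvPolynomial (Fin 2) B)) = C ∘ fun l => c (i.succAbove l) := rfl
    rw [h3, ← h2]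
    congr 1
    have h4 := eval₂_comp_left π (C : k →+* _) (fun l => (X (i.succAbove l) : MvPolynomial (Fin (m + 1 + 1)) k))
      (p.2 j).1
    have h5 : rename i.succAbove (p.2 j).1 =
        eval₂ (C : k →+* _) (fun l => (X (i.succAbove l) : MvPolynomial (Fin (m + 1 + 1)) k)) (p.2 j).1 := by
      rw [← aeval_X_left_apply (rename i.succAbove (p.2 j).1), aeval_rename, aeval_def,
        MvPolynomial.algebraMap_eq]
      rfl
    rw [h5, h4]
    rfl
  have hsum : ∑ j : Fin d, X 0 ^ (d - 1 - j.1) * (C (π (rename i.succAbove (p.2 j).1)) * X 1 ^ (j.1 + 1)) =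
      (0 : MvPolynomial (Fin 2) B) := by
    rw [← hΨ, ← hp]
    simp only [T, LinearMap.coe_mk, AddHom.coe_mk, hp1, zero_smul, zero_add, map_sum, map_mul, map_pow, hΨi, hΨF]
  have hco : ∀ l : Fin d, X 0 ^ (d - 1 - l.1) * (C (π (rename i.succAbove (p.2 l).1)) * X 1 ^ (l.1 + 1)) =
      monomial (ex d l.1) (π (rename i.succAbove (p.2 l).1)) := by
    intro l
    rw [ex, X_pow_eq_monomial, X_pow_eq_monomial, C_mul_monomial, monomial_mul, mul_one, one_mul]
  simp only [hco] at hsum
  have h6 := congrArg (coeff (ex d j.1)) hsum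
  rw [coeff_sum, coeff_zero, Finset.sum_eq_single j] at h6
  · rw [coeff_monomial, if_pos rfl] at h6
    exact Ideal.Quotient.eq_zero_iff_mem.1 h6
  · intro l _ hne
    rw [coeff_monomial, if_neg]
    intro h7
    apply hne
    have h8 := DFunLike.congr_fun h7 1
    simp [ex] at h8
    exact Fin.ext h8
  · simp

/-- Node F1. -/
theorem isGeneric_good [IsAlgClosed k] (hd : 1 ≤ d) (hdn : d + 3 ≤ n) :
    LefPen.IsGeneric k {G : LefPen.Form n k d | Good G} := by
  obtain ⟨m, rfl⟩ : ∃ m, n = m + 1 := ⟨n - 1, by omega⟩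
  have : Infinite k := IsAlgClosed.instInfinite
  have hbad := codimGE_bad (k := k) m d (by omega)
  have hZ := K714.Codim2.codimGE_zero_prod (V := k) hbad
  rw [Module.finrank_self] at hZ
  have hf : ∀ i : Fin (m + 2), ∃ f : Form (m + 1) k d → k, IsPolyFun k f ∧ (∃ Φ, f Φ ≠ 0) ∧
      ∀ u : Fin (m + 1) → k, ∀ w ∈ {p : k × Sq k m d | p.1 = 0 ∧ p.2 ∈ bad k m d}, f (T' i u w) = 0 := by
    intro i
    refine K714.Codim2.exists_polyFun_vanishing (U := Fin (m + 1) → k) (W := k × Sq k m d)
      (V := Form (m + 1) k d) hZ (μ := fun p => T' i p.1 p.2) (isPolyMap_T' i) ?_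
    rw [finrank_eq, Module.finrank_fin_fun]
    omega
  choose f hf hf0 hfv using hf
  refine ⟨fun Φ => ∏ i, f i Φ, pf_prod _ fun i _ => hf i, exists_prod_ne_zero _ (fun i _ => hf i)
    fun i _ => hf0 i, ?_⟩
  intro Φ hΦ i v hv hΦv
  rw [Finset.prod_ne_zero_iff] at hΦ
  set v' : Fin (m + 1) → k := fun l => v (i.succAbove l) with hv'
  have hins : (i.insertNth 1 v' : Fin (m + 2) → k) = v := by
    ext l
    refine Fin.succAboveCases i ?_ (fun l => ?_) l
    · simp [hv]
    · simp [hv']
  obtain ⟨p, hp⟩ := T'_surjective (d := d) i v' Φ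
  have hpT : T i v' p = Φ.1 := congrArg Subtype.val hp
  -- the constant term vanishes
  have hp1 : p.1 = 0 := by
    have h1 := eval_T i v' p v
    rw [hpT, hΦv, hv, one_pow, mul_one] at h1
    have h3 : ∀ j : Fin d, eval (fun l => v (i.succAbove l) - v' l * 1) (p.2 j).1 = 0 := by
      intro j
      have h4 : (fun l => v (i.succAbove l) - v' l * 1) = (0 : Fin (m + 1) → k) := by
        ext l; simp [hv']
      rw [h4, eval_zero, constantCoeff_eq]
      exact ((mem_homogeneousSubmodule _ _).1 (p.2 j).2).coeff_eq_zero (by simp)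
    simp only [h3] at h1
    simpa using h1.symm
  have hgood : p.2 ∉ bad k m d := by
    intro hb
    apply hΦ i (Finset.mem_univ i)
    rw [← hp]
    exact hfv i v' p ⟨hp1, hb⟩
  set I := Ideal.span (Set.range fun j : Fin d => (p.2 j).1) with hI
  have hdim : ringKrullDim (MvPolynomial (Fin (m + 1)) k ⧸ I) ≤ (m + 1 - d : ℕ) := by
    rw [← not_le_iff]
    intro h
    apply hgood
    change ((m + 2 - d : ℕ) : WithBot ℕ∞) ≤ _
    rwa [show m + 2 - d = m + 1 - d + 1 by omega]
  -- the surjection
  let ρ₀ : MvPolynomial (Fin (m + 1)) k →+* MvPolynomial (Fin (m + 1 + 1)) k ⧸ coneIdeal Φ i v :=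
    (Ideal.Quotient.mk _).comp (rename i.succAbove : MvPolynomial (Fin (m + 1)) k →ₐ[k] _).toRingHom
  have hρ : ∀ x ∈ I, ρ₀ x = 0 := by
    have h1 : I ≤ RingHom.ker ρ₀ := by
      rw [hI, Ideal.span_le]
      rintro _ ⟨j, rfl⟩
      exact Ideal.Quotient.eq_zero_iff_mem.2 (mem_coneIdeal i v hv Φ p hp1 hpT j)
    intro x hx
    exact h1 hx
  have hsurj : Function.Surjective (Ideal.Quotient.lift I ρ₀ hρ) := by
    refine Ideal.Quotient.lift_surjective_of_surjective _ _ ?_
    intro y
    obtain ⟨y, rfl⟩ := Ideal.Quotient.mk_surjective y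
    induction y using MvPolynomial.induction_on with
    | C r =>
      refine ⟨C r, ?_⟩
      change Ideal.Quotient.mk _ (rename i.succAbove (C r)) = _
      rw [rename_C]
    | add p q hp hq =>
      obtain ⟨a, ha⟩ := hp
      obtain ⟨b, hb⟩ := hq
      exact ⟨a + b, by rw [map_add, map_add, ha, hb]⟩
    | mul_X p l hp =>
      obtain ⟨a, ha⟩ := hp
      refine Fin.succAboveCases i ?_ (fun l => ?_) l
      · refine ⟨0, ?_⟩
        have h2 : (X i : MvPolynomial (Fin (m + 1 + 1)) k) ∈ coneIdeal Φ i v :=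
          Ideal.subset_span (Or.inl rfl)
        rw [map_zero, map_mul, Ideal.Quotient.eq_zero_iff_mem.2 h2, mul_zero]
      · refine ⟨a * X l, ?_⟩
        rw [map_mul, map_mul, ha]
        congr 1
        change Ideal.Quotient.mk _ (rename i.succAbove (X l)) = _
        rw [rename_X]
  exact (ringKrullDim_le_of_surjective _ hsurj).trans hdim

end Generic

end K105.ConeDim
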