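import Groth.Agent.Fano.K470.CurDef
import Groth.Agent.Lefpen.H703.Elim

/-!
# Boundaries of families of curves: properness and stability (job 449, S16526)

* `exists_mem_bd`: every curve of `W` through zero at `s = 0` comes from the boundary.
* `bd_smul`, `bd_add_smul`, `bd_add`: the boundary is stable under `(p, b) ↦ (c p + d b_0, b)`.
* `ev_add` (Taylor expansion), `comp_translate`: translations `s ↦ s + c` preserve components.
-/

set_option autoImplicit false

universe u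

namespace K105.CurBd

open LefPen Groth.Agent.Lefpen.H703.ZOpen Module K714.Irr K714.Frames K470.Cur

variable {k : Type u} [Field k]

theorem pm_pi' {X W : Type u} [AddCommGroup X] [Module k X] [AddCommGroup W] [Module k W] {n : ℕ}
    {F : X → Fin n → W} (h : ∀ i, IsPolyMap k (fun x => F x i)) : IsPolyMap k F := by
  classical
  intro l
  have h1 : (fun x => l (F x)) = fun x => ∑ i, l.comp (LinearMap.single k (fun _ => W) i) (F x i) := by
    funext x
    conv_lhs => rw [← Finset.univ_sum_single (F x)]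
    rw [map_sum]
    rfl
  rw [h1]
  exact pf_sum _ fun i _ => h i _

theorem pm_proj {W : Type u} [AddCommGroup W] [Module k W] {n : ℕ} (i : Fin n) :
    IsPolyMap k (fun a : Fin n → W => a i) :=
  isPolyMap_linear (LinearMap.proj (R := k) (φ := fun _ : Fin n => W) i)

theorem subset_cl {V : Type u} [AddCommGroup V] [Module k V] (S : Set V) : S ⊆ Cl k S :=
  fun v hv _ _ hvO => ⟨v, hv, hvO⟩

theorem isZOpen_compl_cl {V : Type u} [AddCommGroup V] [Module k V] (S : Set V) : IsZOpen k (Cl k S)ᶜ := by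
  intro v hv
  simp only [Cl, Set.mem_compl_iff, Set.mem_ofPred_eq, not_forall] at hv
  obtain ⟨O, hO, hvO, hne⟩ := hv
  obtain ⟨f, hf, hfv, hfO⟩ := hO v hvO
  refine ⟨f, hf, hfv, fun w hw hcl => hne ?_⟩
  exact hcl O hO (hfO w hw)

/-- polynomial maps are continuous -/
theorem cl_image {V W : Type u} [AddCommGroup V] [Module k V] [AddCommGroup W] [Module k W] {S : Set V} {R : Set W}
    {φ : V → W} (hφ : IsPolyMap k φ) (h : ∀ s ∈ S, φ s ∈ R) {v : V} (hv : v ∈ Cl k S) : φ v ∈ Cl k R := by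
  intro O hO hvO
  obtain ⟨s, hs, hsO⟩ := hv _ (zo_preimage hO hφ) hvO
  exact ⟨φ s, h s hs, hsO⟩

/-- every curve of `W` through zero at `s = 0` comes from the boundary -/
theorem exists_mem_bd [IsAlgClosed k] {e : ℕ} {W : Set (A k (e + 1))} (hW : Irr k W) (_hc : IsZOpen k Wᶜ)
    (hne : ∃ a ∈ W, a 0 ≠ 0) {b : A k e} (hb : (Fin.cons 0 b : A k (e + 1)) ∈ W) :
    ∃ p, p ≠ 0 ∧ (p, b) ∈ bd W := by
  let F : Set ((Fin 5 → k) × A k (e + 1)) := {q | q.2 ∈ W ∧ ∃ c : k, c ≠ 0 ∧ q.2 0 = c • q.1}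
  have hO := isZOpen_compl_cl (k := k) F
  have hcone : ∀ (v : Fin 5 → k) (w : A k (e + 1)) (c : k), c ≠ 0 → (v, w) ∈ (Cl k F)ᶜ →
      (c • v, w) ∈ (Cl k F)ᶜ := by
    intro v w c hc0 h h1
    apply h
    have hm : IsPolyMap k (fun q : (Fin 5 → k) × A k (e + 1) => ((c⁻¹ • q.1, q.2) : (Fin 5 → k) × A k (e + 1))) :=
      pm_prodMk (pm_smul (isPolyFun_const _) isPolyMap_fst) isPolyMap_snd
    have h2 := cl_image (R := F) hm (fun s hs => ?_) h1
    · simpa [smul_smul, inv_mul_cancel₀ hc0] using h2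
    · obtain ⟨hs1, d, hd, hs2⟩ := hs
      refine ⟨hs1, d * c, mul_ne_zero hd hc0, ?_⟩
      simp only
      rw [hs2, smul_smul, mul_assoc, mul_inv_cancel₀ hc0, mul_one]
  have hU := Groth.Agent.Lefpen.H703.Elim.isZOpen_forall_ne_zero hO hcone
  have h1 : ∃ p : Fin 5 → k, p ≠ 0 ∧ (p, (Fin.cons 0 b : A k (e + 1))) ∈ Cl k F := by
    by_contra hcon
    push Not at hcon
    have hmem : (Fin.cons 0 b : A k (e + 1)) ∈ {w : A k (e + 1) | ∀ v : Fin 5 → k, v ≠ 0 → (v, w) ∈ (Cl k F)ᶜ} :=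
      fun v hv => hcon v hv
    have hopen : IsZOpen k {a : A k (e + 1) | a 0 ≠ 0} :=
      zo_preimage (Groth.Agent.Lefpen.H703.Elim.isZOpen_ne_zero (k := k) (E := Fin 5 → k)) (pm_proj 0)
    obtain ⟨a, ha⟩ := hne
    obtain ⟨a, haW, haU, ha0⟩ := hW.2 _ _ hU hopen ⟨_, hb, hmem⟩ ⟨a, ha.1, ha.2⟩
    exact haU (a 0) ha0 (subset_cl F ⟨haW, 1, one_ne_zero, (one_smul k _).symm⟩)
  obtain ⟨p, hp, hpF⟩ := h1
  refine ⟨p, hp, ?_⟩
  -- a linear form not vanishing at `p`
  obtain ⟨l, hl⟩ : ∃ l : (Fin 5 → k) →ₗ[k] k, l p ≠ 0 := by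
    by_contra h
    push Not at h
    exact hp ((Module.forall_dual_apply_eq_zero_iff k p).1 h)
  have hδ : IsPolyFun k (fun q : (Fin 5 → k) × A k (e + 1) => l q.1) :=
    isPolyMap_fst (V := Fin 5 → k) (W := A k (e + 1)) l
  have htail : IsPolyMap k (fun q : (Fin 5 → k) × A k (e + 1) => (fun i => q.2 (Fin.succ i) : A k e)) :=
    pm_pi' fun i => pm_comp (pm_proj (Fin.succ i)) isPolyMap_snd
  have hQ : IsPolyMap k (fun q : (Fin 5 → k) × A k (e + 1) =>
      (((0 : k), q.1, (fun i => q.2 (Fin.succ i) : A k e)) : k × (Fin 5 → k) × A k e)) :=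
    pm_prodMk (isPolyMap_const 0) (pm_prodMk isPolyMap_fst htail)
  have hP : IsPolyMap k (fun q : (Fin 5 → k) × A k (e + 1) =>
      ((l (q.2 0), (0 : Fin 5 → k), (0 : A k e)) : k × (Fin 5 → k) × A k e)) :=
    pm_prodMk (isPolyMap_iff_isPolyFun.2 ((pm_comp (pm_proj 0) isPolyMap_snd) l)) (isPolyMap_const 0)
  intro O hO' hmem
  have hR := isZOpen_rat hO' hδ hQ hP
  have hcomp : ∀ q : (Fin 5 → k) × A k (e + 1),
      (((0 : k), q.1, (fun i => q.2 (Fin.succ i) : A k e)) : k × (Fin 5 → k) × A k e) +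
        (l q.1)⁻¹ • (l (q.2 0), (0 : Fin 5 → k), (0 : A k e)) =
      ((l q.1)⁻¹ * l (q.2 0), q.1, (fun i => q.2 (Fin.succ i) : A k e)) := by
    intro q
    simp only [Prod.smul_mk, Prod.mk_add_mk, smul_eq_mul, zero_add, smul_zero, add_zero]
  obtain ⟨q, hqF, hq0, hqO⟩ := hpF _ hR ⟨hl, by
    rw [hcomp]
    simpa using hmem⟩
  rw [hcomp] at hqO
  refine ⟨_, ⟨?_, ?_⟩, hqO⟩
  · obtain ⟨hqW, c, hc0, hqc⟩ := hqF
    simp only
    rw [hqc, map_smul, smul_eq_mul]
    exact mul_ne_zero (inv_ne_zero hq0) (mul_ne_zero hc0 hq0)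
  · obtain ⟨hqW, c, hc0, hqc⟩ := hqF
    have h3 : ((l q.1)⁻¹ * l (q.2 0)) • q.1 = q.2 0 := by
      rw [hqc, map_smul, smul_eq_mul, mul_comm c, ← mul_assoc, inv_mul_cancel₀ hq0, one_mul]
    simp only
    rw [h3]
    have h4 : (Fin.cons (q.2 0) (fun i => q.2 (Fin.succ i)) : A k (e + 1)) = q.2 := by
      funext i
      refine Fin.cases ?_ (fun j => ?_) i
      · simp
      · simp
    rw [h4]
    exact hqW

/-! ### Taylor expansion and translations -/

theorem ev_add {e : ℕ} (a : A k e) (s h : k) : ev a (s + h) = ∑ j : Fin (e + 1), h ^ (j : ℕ) • hd a j s := by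
  simp only [ev, hd, Finset.smul_sum, smul_smul]
  rw [Finset.sum_comm]
  refine Finset.sum_congr rfl fun i _ => ?_
  rw [← Finset.sum_smul]
  congr 1
  rw [add_comm s h, add_pow,
    Fin.sum_univ_eq_sum_range (fun j => h ^ j * (((i : ℕ).choose j : k) * s ^ ((i : ℕ) - j))) (e + 1)]
  refine (Finset.sum_congr rfl fun m _ => ?_).trans
    (Finset.sum_subset (s₁ := Finset.range ((i : ℕ) + 1)) ?_ fun m _ hm => ?_)
  · ring
  · intro m hm
    rw [Finset.mem_range] at hm ⊢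
    omega
  · rw [Finset.mem_range] at hm
    rw [Nat.choose_eq_zero_of_lt (by omega)]
    simp

theorem pm_hd {X : Type u} [AddCommGroup X] [Module k X] {e : ℕ} {f : X → A k e} (hf : IsPolyMap k f) {c : X → k}
    (hc : IsPolyFun k c) (j : ℕ) : IsPolyMap k (fun x => hd (f x) j (c x)) := by
  intro l
  simp only [hd, map_sum, map_smul, smul_eq_mul]
  exact pf_sum _ fun i _ => pf_mul (pf_mul (isPolyFun_const _) (pf_pow hc _)) ((pm_comp (pm_proj i) hf) l)

theorem pm_ev {X : Type u} [AddCommGroup X] [Module k X] {e : ℕ} {f : X → A k e} (hf : IsPolyMap k f) {c : X → k}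
    (hc : IsPolyFun k c) : IsPolyMap k (fun x => ev (f x) (c x)) := by
  intro l
  simp only [ev, map_sum, map_smul, smul_eq_mul]
  exact pf_sum _ fun i _ => pf_mul (pf_pow hc _) ((pm_comp (pm_proj i) hf) l)

theorem hd_zero {e : ℕ} (a : A k e) (i : Fin (e + 1)) : hd a (i : ℕ) 0 = a i := by
  simp only [hd]
  rw [Finset.sum_eq_single i]
  · simp
  · intro j _ hj
    rcases lt_trichotomy (j : ℕ) (i : ℕ) with h | h | h
    · rw [Nat.choose_eq_zero_of_lt h]
      simp
    · exact absurd (Fin.ext h) hj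
    · rw [zero_pow (by omega)]
      simp
  · simp

variable {T : (Fin 5 → k) →ₗ[k] (Fin 5 → k) →ₗ[k] (Fin 5 → k) →ₗ[k] k}

theorem comp_translate [IsAlgClosed k] {e : ℕ} {W : Set (A k e)} (hW : IsComp k (Z T e) W) (c : k) {a : A k e}
    (ha : a ∈ W) : (fun i => hd a i c : A k e) ∈ W := by
  obtain ⟨h1, h2, h3⟩ := hW
  let Φ : k × A k e → A k e := fun q i => hd q.2 i q.1
  have hΦ : IsPolyMap k Φ := pm_pi' fun i => pm_hd isPolyMap_snd (isPolyMap_iff_isPolyFun.1 isPolyMap_fst) _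
  have hirr : Irr k (Φ '' (Set.univ ×ˢ W)) := (Irr.prod (irr_univ (k := k) (V := k)) h2).image hΦ
  have hsub : W ⊆ Φ '' (Set.univ ×ˢ W) := by
    intro b hb
    refine ⟨(0, b), ⟨trivial, hb⟩, ?_⟩
    funext i
    exact hd_zero b i
  have hZ : Φ '' (Set.univ ×ˢ W) ⊆ Z T e := by
    rintro _ ⟨⟨d, b⟩, ⟨-, hb⟩, rfl⟩ s
    have h4 : ev (Φ (d, b)) s = ev b (d + s) := by
      rw [ev_add]
      rfl
    rw [h4]
    exact h1 hb _
  rw [← h3 _ hZ hirr hsub]
  exact ⟨(c, a), ⟨trivial, ha⟩, rfl⟩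

/-! ### Stability of the boundary -/

theorem hd_cons_zero {e : ℕ} (x : Fin 5 → k) (b : A k e) (s : k) :
    hd (Fin.cons x b : A k (e + 1)) 0 s = x + s • ev b s := by
  simp only [hd, ev]
  rw [Fin.sum_univ_succ]
  simp only [Fin.val_zero, Nat.choose_self, Nat.cast_one, Nat.sub_zero, pow_zero, mul_one, one_smul, Fin.cons_zero,
    Fin.val_succ, Nat.choose_zero_right, one_mul, Fin.cons_succ, Finset.smul_sum, smul_smul]
  congr 1
  exact Finset.sum_congr rfl fun i _ => by rw [pow_succ, mul_comm]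

/-- stability under `(p, b) ↦ (c p, b)` -/
theorem bd_smul {e : ℕ} {W : Set (A k (e + 1))} {p : Fin 5 → k} {b : A k e} (h : (p, b) ∈ bd W) {c : k}
    (hc : c ≠ 0) : (c • p, b) ∈ bd W := by
  have hm : IsPolyMap k (fun q : k × (Fin 5 → k) × A k e => ((c⁻¹ * q.1, c • q.2.1, q.2.2) :
      k × (Fin 5 → k) × A k e)) :=
    pm_prodMk (isPolyMap_iff_isPolyFun.2 (pf_const_mul _ (isPolyMap_iff_isPolyFun.1 isPolyMap_fst)))
      (pm_prodMk (pm_smul (isPolyFun_const _) (pm_comp isPolyMap_fst isPolyMap_snd))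
        (pm_comp isPolyMap_snd isPolyMap_snd))
  have h1 := cl_image (R := hat W) hm (fun q hq => ?_) h
  · simpa [bd] using h1
  · refine ⟨mul_ne_zero (inv_ne_zero hc) hq.1, ?_⟩
    have h2 : (c⁻¹ * q.1) • c • q.2.1 = q.1 • q.2.1 := by
      rw [smul_smul, mul_right_comm, inv_mul_cancel₀ hc, one_mul]
    simp only
    rw [h2]
    exact hq.2

/-- stability under `(p, b) ↦ (p + d b_0, b)` when `W` is stable under translations -/
theorem bd_add_smul {e : ℕ} {W : Set (A k (e + 1))}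
    (htr : ∀ (c : k) (a : A k (e + 1)), a ∈ W → (fun i => hd a i c : A k (e + 1)) ∈ W)
    {p : Fin 5 → k} {b : A k e} (h : (p, b) ∈ bd W) (d : k) : (p + d • b 0, b) ∈ bd W := by
  have hα : IsPolyFun k (fun q : k × (Fin 5 → k) × A k e => q.1 * d) :=
    pf_mul (isPolyMap_iff_isPolyFun.1 isPolyMap_fst) (isPolyFun_const d)
  have hp : IsPolyMap k (fun q : k × (Fin 5 → k) × A k e => q.2.1) := pm_comp isPolyMap_fst isPolyMap_snd
  have hb : IsPolyMap k (fun q : k × (Fin 5 → k) × A k e => q.2.2) := pm_comp isPolyMap_snd isPolyMap_snd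
  have ha : IsPolyMap k (fun q : k × (Fin 5 → k) × A k e => (Fin.cons (q.1 • q.2.1) q.2.2 : A k (e + 1))) := by
    refine pm_pi' fun i => ?_
    refine Fin.cases ?_ (fun j => ?_) i
    · simp only [Fin.cons_zero]
      exact pm_smul (isPolyMap_iff_isPolyFun.1 isPolyMap_fst) hp
    · simp only [Fin.cons_succ]
      exact pm_comp (pm_proj j) hb
  have hm : IsPolyMap k (fun q : k × (Fin 5 → k) × A k e => ((q.1, q.2.1 + d • ev q.2.2 (q.1 * d),
      (fun i => hd (Fin.cons (q.1 • q.2.1) q.2.2 : A k (e + 1)) ((i : ℕ) + 1) (q.1 * d) : A k e)) :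
      k × (Fin 5 → k) × A k e)) :=
    pm_prodMk isPolyMap_fst (pm_prodMk (pm_add hp (pm_smul (isPolyFun_const d) (pm_ev hb hα)))
      (pm_pi' fun i => pm_hd ha hα _))
  have h1 := cl_image (R := hat W) hm (fun q hq => ?_) h
  · simp only [zero_mul, zero_smul] at h1
    have h2 : ev b 0 = b 0 := by
      simp only [ev]
      rw [Finset.sum_eq_single 0]
      · simp
      · intro j _ hj
        have : (j : ℕ) ≠ 0 := fun h => hj (Fin.ext h)
        rw [zero_pow this, zero_smul]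
      · simp
    have h3 : (fun i => hd (Fin.cons 0 b : A k (e + 1)) ((i : ℕ) + 1) 0 : A k e) = b := by
      funext i
      have := hd_zero (Fin.cons 0 b : A k (e + 1)) i.succ
      simpa using this
    rw [h2, h3] at h1
    exact h1
  · refine ⟨hq.1, ?_⟩
    simp only
    have h2 := htr (q.1 * d) _ hq.2
    convert h2 using 1
    funext i
    refine Fin.cases ?_ (fun j => ?_) i
    · simp only [Fin.cons_zero, Fin.val_zero]
      rw [hd_cons_zero, smul_add, smul_smul]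
    · simp only [Fin.cons_succ, Fin.val_succ]

theorem bd_add [IsAlgClosed k] {e : ℕ} {W : Set (A k (e + 1))} (hW : IsComp k (Z T (e + 1)) W)
    {p : Fin 5 → k} {b : A k e} (h : (p, b) ∈ bd W) (c d : k) (hc : c ≠ 0) : (c • p + d • b 0, b) ∈ bd W :=
  bd_add_smul (fun _ _ ha => comp_translate hW _ ha) (bd_smul h hc) d

end K105.CurBd
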