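import Groth.Agent.Fano.K289.UniqComp

/-!
# Leaving a hypersurface along a smooth system of equations

`exists_near`: `Φ = 0` is smooth at `y₀` (surjective differential `D`), `v` is a tangent vector along which the
polynomial function `δ` vanishes to order exactly one. Then every neighbourhood of `y₀` contains solutions of `Φ = 0`
with `δ ≠ 0`.
-/

set_option autoImplicit false

universe u

namespace K105.Near

open LefPen Groth.Agent.Lefpen.H703.ZOpen Module K714.Irr MvPolynomial

variable {k : Type u} [Field k]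

/-- directional derivative -/
noncomputable def dir {σ : Type} [Fintype σ] (w : σ → k) : Derivation k (MvPolynomial σ k) (MvPolynomial σ k) :=
  ∑ l, (C (w l) : MvPolynomial σ k) • pderiv l

theorem dir_apply {σ : Type} [Fintype σ] (w : σ → k) (P : MvPolynomial σ k) :
    dir w P = ∑ l, C (w l) * pderiv l P := by
  classical
  have h : ∀ s : Finset σ, (∑ l ∈ s, (C (w l) : MvPolynomial σ k) • pderiv l) P = ∑ l ∈ s, C (w l) * pderiv l P := by
    intro s
    induction s using Finset.induction_on with
    | empty => simp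
    | insert a s ha ih =>
      rw [Finset.sum_insert ha, Finset.sum_insert ha, Derivation.add_apply, ih]
      rfl
  exact h _

theorem eval_dir {σ : Type} [Fintype σ] (w x : σ → k) (P : MvPolynomial σ k) :
    eval x (dir w P) = ∑ l, w l * eval x (pderiv l P) := by
  rw [dir_apply, map_sum]
  simp

variable {V : Type u} [AddCommGroup V] [Module k V]

variable [IsAlgClosed k] [FiniteDimensional k V]

theorem exists_near {E : Type u} [AddCommGroup E] [Module k E] [FiniteDimensional k E] {Φ : V → E}
    (hΦ : IsPolyMap k Φ) {y₀ : V} (h0 : Φ y₀ = 0) (D : V →ₗ[k] E) (hD : Function.Surjective D)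
    (hder : ∀ v, ∃ e₂ e₃ : E, ∀ τ : k, Φ (y₀ + τ • v) = τ • D v + τ ^ 2 • (e₂ + τ • e₃))
    {δ : V → k} (hδ : IsPolyFun k δ) {v : V} (hv : D v = 0) {p : k → k} (hp : IsPolyFun k p)
    (hpp : ∀ τ, δ (y₀ + τ • v) = τ * p τ) (hp0 : p 0 ≠ 0) {O : Set V} (hO : IsZOpen k O) (hy : y₀ ∈ O) :
    ∃ y ∈ O, Φ y = 0 ∧ δ y ≠ 0 := by
  classical
  have : Infinite k := IsAlgClosed.instInfinite
  let b := finBasis k V
  let β := finBasis k E
  let g : Fin (finrank k E) → V → k := fun i v => β.coord i (Φ v)
  have hg : ∀ i, IsPolyFun k (g i) := fun i => hΦ (β.coord i)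
  let D' : V →ₗ[k] (Fin (finrank k E) → k) := β.equivFun.toLinearMap.comp D
  have hD' : Function.Surjective D' := β.equivFun.surjective.comp hD
  choose H hH using fun i => K714.Codim.exists_mvPoly b (hg i)
  have hgder : ∀ i v, ∃ q : Polynomial k, ∀ τ : k, g i (y₀ + τ • v) = τ * D' v i + τ ^ 2 * q.eval τ := by
    intro i v
    obtain ⟨e₂, e₃, he⟩ := hder v
    refine ⟨Polynomial.C (β.coord i e₂) + Polynomial.X * Polynomial.C (β.coord i e₃), fun τ => ?_⟩
    simp only [g, he, map_add, map_smul, smul_eq_mul, Polynomial.eval_add, Polynomial.eval_mul, Polynomial.eval_C,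
      Polynomial.eval_X]
    rfl
  have hNS := K289.UniqComp.nonsing (fun i => by simp [g, h0]) D' hD' hgder H hH
  obtain ⟨P, hP, hspan, hPx, -, s, hs, hsP⟩ := K714.Comp.exists_prime H hNS
  obtain ⟨Δ, hΔ⟩ := K714.Codim.exists_mvPoly b hδ
  have hsub : ∀ w : V, b.equivFun w ∈ zeroLocus k P → Φ w = 0 := by
    intro w hw
    apply β.equivFun.injective
    funext i
    rw [map_zero]
    have h1 := hw (H i) (hspan (Ideal.subset_span ⟨i, rfl⟩))
    rw [aeval_eq_eval, ← hH] at h1
    exact h1
  have hΔP : Δ ∉ P := by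
    intro hmem
    have h1 := hsP Δ hmem
    let w := b.equivFun v
    let x := b.equivFun y₀
    -- derivative of elements of the ideal
    have h2 : ∀ z ∈ Ideal.span (Set.range H), eval x z = 0 ∧ eval x (dir w z) = 0 := by
      intro z hz
      refine Submodule.span_induction (p := fun z _ => eval x z = 0 ∧ eval x (dir w z) = 0) ?_ ?_ ?_ ?_ hz
      · rintro _ ⟨i, rfl⟩
        refine ⟨hNS.1 i, ?_⟩
        obtain ⟨q, hq⟩ := hgder i v
        obtain ⟨q', hq'⟩ := K289.UniqComp.taylor (H i) x w
        have h3 := K289.UniqComp.linear_term_unique (q := q) (q' := q') (a := D' v i)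
          (a' := ∑ l, w l * eval x (pderiv l (H i))) fun τ => by
            have h4 := hq τ
            rw [← h4, hH, map_add, map_smul]
            have h5 := hq' τ
            rw [hNS.1 i, zero_add] at h5
            exact h5
        rw [eval_dir, ← h3]
        have h6 : D' v = 0 := by
          change β.equivFun (D v) = 0
          rw [hv, map_zero]
        rw [h6]
        rfl
      · simp
      · rintro a c _ _ ⟨h1, h2⟩ ⟨h3, h4⟩
        exact ⟨by rw [map_add, h1, h3, add_zero], by rw [map_add, map_add, h2, h4, add_zero]⟩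
      · rintro a c _ ⟨h1, h2⟩
        refine ⟨by rw [smul_eq_mul, map_mul, h1, mul_zero], ?_⟩
        rw [smul_eq_mul, Derivation.leibniz, map_add, smul_eq_mul, smul_eq_mul, map_mul, map_mul, h1, h2, mul_zero,
          zero_mul, add_zero]
    obtain ⟨-, h3⟩ := h2 _ h1
    rw [Derivation.leibniz, map_add, smul_eq_mul, smul_eq_mul, map_mul, map_mul] at h3
    have h4 : eval x Δ = 0 := by
      rw [← hΔ]
      have := hpp 0
      simpa using this
    rw [h4, zero_mul, add_zero] at h3
    have h5 : eval x (dir w Δ) = 0 := (mul_eq_zero.1 h3).resolve_left hs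
    obtain ⟨q', hq'⟩ := K289.UniqComp.taylor Δ x w
    obtain ⟨pp, hppp⟩ := pf_line hp 0 1
    have h6 : ∀ τ, pp.eval τ = p τ := by
      intro τ
      rw [hppp]
      simp
    have h7 : Polynomial.X * pp = Polynomial.X ^ 2 * q' := by
      refine Polynomial.funext fun τ => ?_
      rw [Polynomial.eval_mul, Polynomial.eval_mul, Polynomial.eval_X, Polynomial.eval_pow, Polynomial.eval_X, h6,
        ← hpp, hΔ, map_add, map_smul]
      have h8 := hq' τ
      rw [h4, ← eval_dir, h5, mul_zero, zero_add, zero_add] at h8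
      exact h8
    have h8 : pp = Polynomial.X * q' := by
      have h9 : Polynomial.X * pp = Polynomial.X * (Polynomial.X * q') := by rw [h7]; ring
      exact mul_left_cancel₀ Polynomial.X_ne_zero h9
    apply hp0
    rw [← h6, h8]
    simp
  -- a point of the component with `δ ≠ 0` in the open set
  have hirr := K289.UniqComp.irr_zeroLocus b P
  obtain ⟨y, hy1, hy2, hy3⟩ := hirr.2 O {w | δ w ≠ 0} hO (isZOpen_basic hδ)
    ⟨y₀, fun F hF => by
      have := hPx hF
      rw [K714.Comp.mem_mx] at this
      rw [aeval_eq_eval]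
      exact this, hy⟩ (by
      have h1 := hΔP
      rw [← IsPrime.vanishingIdeal_zeroLocus (K := k) P, mem_vanishingIdeal_iff] at h1
      push Not at h1
      obtain ⟨x, hx, hne⟩ := h1
      rw [aeval_eq_eval] at hne
      refine ⟨b.equivFun.symm x, ?_, ?_⟩
      · rw [Set.mem_ofPred_eq, LinearEquiv.apply_symm_apply]
        exact hx
      · rw [Set.mem_ofPred_eq, hΔ, LinearEquiv.apply_symm_apply]
        exact hne)
  exact ⟨y, hy2, hsub y hy1, hy3⟩

end K105.Near
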