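import Groth.Agent.Fano.K714.QuartDef
import Groth.Agent.Fano.K714.TypeConst2
import Groth.Agent.Fano.K714.JacSm
import Groth.Agent.Lefpen.H703.NondegOpen

/-!
# Decompositions `f = h Q + ∑ v_i P_ij y_j`: scalar lemmas
-/

set_option autoImplicit false

universe u

namespace K105.Sol4Alg

open Module K656.Trilin K714.Surf

variable {k : Type u} [Field k]

/-- No common zero of a binary quadratic form and two binary linear forms. -/
def NoZero (q : Fin 3 → k) (a b : Fin 2 → k) : Prop :=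
  ∀ s t : k, (s ≠ 0 ∨ t ≠ 0) → q 0 * s ^ 2 + q 1 * s * t + q 2 * t ^ 2 = 0 → a 0 * s + a 1 * t = 0 →
    b 0 * s + b 1 * t = 0 → False

theorem exists_param {α β w₀ w₁ w₂ : k} (h : α ≠ 0 ∨ β ≠ 0) (h1 : α * w₀ + β * w₁ = 0) (h2 : α * w₁ + β * w₂ = 0) :
    ∃ u : k, w₀ = u * β ^ 2 ∧ w₁ = -u * α * β ∧ w₂ = u * α ^ 2 := by
  by_cases hα : α = 0
  · have hβ : β ≠ 0 := h.resolve_left (fun h => h hα)
    subst hα
    refine ⟨w₀ / β ^ 2, by field_simp, ?_, ?_⟩
    · have : w₁ = 0 := by simpa [hβ] using h1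
      rw [this]; ring
    · have : w₂ = 0 := by simpa [hβ] using h2
      rw [this]; ring
  · refine ⟨w₂ / α ^ 2, ?_, ?_, by field_simp⟩
    · have e1 : w₁ = -β * w₂ / α := by field_simp; linear_combination h2
      have e2 : w₀ = -β * w₁ / α := by field_simp; linear_combination h1
      rw [e2, e1]; field_simp
    · field_simp; linear_combination h2

/-- first case: the functional `κ` vanishes -/
theorem side_kappa {q : Fin 3 → k} {a b : Fin 2 → k} {w₀ w₁ w₂ κ : k} (hq2 : q 2 ≠ 0)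
    (hb : b 0 ≠ 0 ∨ b 1 ≠ 0) (hnz : NoZero q a b)
    (h1 : b 0 * w₀ + b 1 * w₁ = 0) (h2 : b 0 * w₁ + b 1 * w₂ = 0) (h3 : a 0 * w₀ + a 1 * w₁ = 0)
    (h4 : a 0 * w₁ + a 1 * w₂ = κ) (h5 : q 0 * w₀ + q 1 * w₁ + q 2 * w₂ = 0) : κ = 0 := by
  obtain ⟨u, e0, e1, e2⟩ := exists_param hb h1 h2
  by_contra hκ
  have hu : u ≠ 0 := fun h => hκ (by rw [← h4, e1, e2, h]; ring)
  have hD : u * b 1 * (a 0 * b 1 - a 1 * b 0) = 0 := by
    rw [e0, e1] at h3
    linear_combination h3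
  have hk : κ = -u * b 0 * (a 0 * b 1 - a 1 * b 0) := by
    rw [← h4, e1, e2]; ring
  have hne : b 0 ≠ 0 ∧ a 0 * b 1 - a 1 * b 0 ≠ 0 := by
    constructor
    · intro h; exact hκ (by rw [hk, h]; ring)
    · intro h; exact hκ (by rw [hk, h]; ring)
  have hb1 : b 1 = 0 := by
    rcases mul_eq_zero.1 hD with h | h
    · exact (mul_eq_zero.1 h).resolve_left hu
    · exact absurd h hne.2
  have h6 : u * (q 2 * b 0 ^ 2) = 0 := by
    rw [e0, e1, e2, hb1] at h5
    linear_combination h5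
  have := mul_ne_zero hu (mul_ne_zero hq2 (pow_ne_zero 2 hne.1))
  exact this h6

/-- second case: `κ = 0` implies that everything vanishes -/
theorem side_zero [IsAlgClosed k] {q : Fin 3 → k} {a b : Fin 2 → k} {w₀ w₁ w₂ : k}
    (hnz : NoZero q a b)
    (h1 : b 0 * w₀ + b 1 * w₁ = 0) (h2 : b 0 * w₁ + b 1 * w₂ = 0) (h3 : a 0 * w₀ + a 1 * w₁ = 0)
    (h4 : a 0 * w₁ + a 1 * w₂ = 0) (h5 : q 0 * w₀ + q 1 * w₁ + q 2 * w₂ = 0) : w₀ = 0 ∧ w₁ = 0 ∧ w₂ = 0 := by
  have key : ∀ a b : Fin 2 → k, NoZero q a b → (b 0 ≠ 0 ∨ b 1 ≠ 0) → b 0 * w₀ + b 1 * w₁ = 0 →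
      b 0 * w₁ + b 1 * w₂ = 0 → a 0 * w₀ + a 1 * w₁ = 0 → a 0 * w₁ + a 1 * w₂ = 0 → w₀ = 0 ∧ w₁ = 0 ∧ w₂ = 0 := by
    intro a b hnz hb h1 h2 h3 h4
    obtain ⟨u, e0, e1, e2⟩ := exists_param hb h1 h2
    by_cases hu : u = 0
    · rw [e0, e1, e2, hu]; simp
    · exfalso
      have hD1 : b 1 * (a 0 * b 1 - a 1 * b 0) = 0 := by
        apply mul_left_cancel₀ hu
        rw [e0, e1] at h3
        linear_combination h3
      have hD2 : b 0 * (a 0 * b 1 - a 1 * b 0) = 0 := by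
        apply mul_left_cancel₀ hu
        rw [e1, e2] at h4
        linear_combination -h4
      have hD : a 0 * b 1 - a 1 * b 0 = 0 := by
        rcases hb with h | h
        · exact (mul_eq_zero.1 hD2).resolve_left h
        · exact (mul_eq_zero.1 hD1).resolve_left h
      refine hnz (b 1) (-(b 0)) ?_ ?_ ?_ ?_
      · rcases hb with h | h
        · exact Or.inr (neg_ne_zero.2 h)
        · exact Or.inl h
      · apply mul_left_cancel₀ hu
        rw [e0, e1, e2] at h5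
        linear_combination h5
      · linear_combination hD
      · ring
  by_cases hb : b 0 ≠ 0 ∨ b 1 ≠ 0
  · exact key a b hnz hb h1 h2 h3 h4
  by_cases ha : a 0 ≠ 0 ∨ a 1 ≠ 0
  · exact key b a (fun s t h0 h1 h2 h3 => hnz s t h0 h1 h3 h2) ha h3 h4 h1 h2
  exfalso
  push Not at ha hb
  obtain ⟨s, t, hst, h0⟩ := exists_quad_zero (q 0) (q 1) (q 2)
  exact hnz s t hst h0 (by rw [ha.1, ha.2]; ring) (by rw [hb.1, hb.2]; ring)

/-- three binary quadratic forms without common zero generate all cubics (dual form) -/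
theorem bin_cubic [IsAlgClosed k] {q : Fin 3 → Fin 3 → k}
    (hnz : ∀ s t : k, (s ≠ 0 ∨ t ≠ 0) → (∀ m, q m 0 * s ^ 2 + q m 1 * s * t + q m 2 * t ^ 2 = 0) → False)
    {w₀ w₁ w₂ w₃ : k} (h1 : ∀ m, q m 0 * w₀ + q m 1 * w₁ + q m 2 * w₂ = 0)
    (h2 : ∀ m, q m 0 * w₁ + q m 1 * w₂ + q m 2 * w₃ = 0) : w₀ = 0 ∧ w₁ = 0 ∧ w₂ = 0 ∧ w₃ = 0 := by
  by_contra hcon
  -- the quadratic form orthogonal to both
  by_cases hrk : w₀ * w₂ - w₁ ^ 2 = 0 ∧ w₀ * w₃ - w₁ * w₂ = 0 ∧ w₁ * w₃ - w₂ ^ 2 = 0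
  · obtain ⟨r1, r2, r3⟩ := hrk
    by_cases h0 : w₀ = 0
    · have e1 : w₁ = 0 := by
        have : w₁ ^ 2 = 0 := by rw [h0] at r1; linear_combination -r1
        exact pow_eq_zero_iff two_ne_zero |>.1 this
      have e2 : w₂ = 0 := by
        have : w₂ ^ 2 = 0 := by rw [e1] at r3; linear_combination -r3
        exact pow_eq_zero_iff two_ne_zero |>.1 this
      have e3 : w₃ ≠ 0 := fun h => hcon ⟨h0, e1, e2, h⟩
      refine hnz 0 1 (Or.inr one_ne_zero) fun m => ?_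
      have := h2 m
      rw [e1, e2] at this
      have h4 : q m 2 = 0 := by
        have h5 : q m 2 * w₃ = 0 := by linear_combination this
        exact (mul_eq_zero.1 h5).resolve_right e3
      rw [h4]; ring
    · refine hnz w₀ w₁ (Or.inl h0) fun m => ?_
      apply mul_left_cancel₀ h0
      linear_combination w₀ ^ 2 * h1 m - w₀ * q m 2 * r1
  · -- `q m` are all multiples of the cross product
    let n : Fin 3 → k := ![w₁ * w₃ - w₂ ^ 2, -(w₀ * w₃ - w₁ * w₂), w₀ * w₂ - w₁ ^ 2]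
    have hn : n 0 ≠ 0 ∨ n 1 ≠ 0 ∨ n 2 ≠ 0 := by
      by_contra h
      push Not at h
      exact hrk ⟨h.2.2, neg_eq_zero.1 h.2.1, h.1⟩
    obtain ⟨s, t, hst, h0⟩ := exists_quad_zero (n 0) (n 1) (n 2)
    -- q m × n = 0
    have c01 : ∀ m, q m 0 * n 1 = q m 1 * n 0 := by
      intro m
      have e1 := h1 m
      have e2 := h2 m
      simp only [n, Matrix.cons_val]
      linear_combination (-w₃) * e1 + w₂ * e2
    have c02 : ∀ m, q m 0 * n 2 = q m 2 * n 0 := by
      intro m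
      have e1 := h1 m
      have e2 := h2 m
      simp only [n, Matrix.cons_val]
      linear_combination w₂ * e1 - w₁ * e2
    have c12 : ∀ m, q m 1 * n 2 = q m 2 * n 1 := by
      intro m
      have e1 := h1 m
      have e2 := h2 m
      simp only [n, Matrix.cons_val]
      linear_combination (-w₁) * e1 + w₀ * e2
    refine hnz s t hst fun m => ?_
    rcases hn with h | h | h
    · apply mul_left_cancel₀ h
      linear_combination q m 0 * h0 - s * t * c01 m - t ^ 2 * c02 m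
    · apply mul_left_cancel₀ h
      linear_combination q m 1 * h0 + s ^ 2 * c01 m - t ^ 2 * c12 m
    · apply mul_left_cancel₀ h
      linear_combination q m 2 * h0 + s ^ 2 * c02 m + s * t * c12 m

end K105.Sol4Alg
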