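import Groth.Agent.Fano.K105.Sol4Alg
import Groth.Agent.Fano.K324.QuartIrr
import Mathlib.LinearAlgebra.Dual.Lemmas

/-!
# Decompositions `f = h Q + ∑ v_i P_ij y_j` of a cubic form in five variables

* `t3 u v w`: product of three linear forms; `LH u M`: linear form times quadratic form.
* `Dat`, `H`, `Dec f`: the decompositions; `DH q`: the derivative of `H` at `q`.
-/

set_option autoImplicit false

universe u

namespace K105.Sol4

open Module K656.Trilin K714.Surf LefPen Groth.Agent.Lefpen.H703.ZOpen K714.Irr MvPolynomial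
  Groth.Agent.Fano.K714.Quart Groth.Agent.Fano.K714.Rat K324.QuartIrr

variable {k : Type u} [Field k]

/-- product of three linear forms -/
noncomputable def t3f (u v w : Fin 5 → k) : Form 4 k 3 :=
  ⟨(lin u).1 * (lin v).1 * (lin w).1, (mem_homogeneousSubmodule _ _).mpr
    ((((mem_homogeneousSubmodule _ _).1 (lin u).2).mul ((mem_homogeneousSubmodule _ _).1 (lin v).2)).mul
      ((mem_homogeneousSubmodule _ _).1 (lin w).2))⟩

noncomputable def t3 (k : Type u) [Field k] :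
    (Fin 5 → k) →ₗ[k] (Fin 5 → k) →ₗ[k] (Fin 5 → k) →ₗ[k] Form 4 k 3 :=
  LinearMap.mk₂ k (fun u v =>
    { toFun := fun w => t3f u v w
      map_add' := fun w w' => Subtype.ext (by simp only [t3f, lin_add, Submodule.coe_add, mul_add])
      map_smul' := fun c w => Subtype.ext (by
        simp only [t3f, lin_smul, Submodule.coe_smul, mul_smul_comm, RingHom.id_apply]) })
    (fun u u' v => LinearMap.ext fun w => Subtype.ext (by
      simp only [t3f, lin_add, Submodule.coe_add, add_mul, LinearMap.add_apply, LinearMap.coe_mk, AddHom.coe_mk]))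
    (fun c u v => LinearMap.ext fun w => Subtype.ext (by
      simp only [t3f, lin_smul, Submodule.coe_smul, smul_mul_assoc, LinearMap.smul_apply, LinearMap.coe_mk,
        AddHom.coe_mk]))
    (fun u v v' => LinearMap.ext fun w => Subtype.ext (by
      simp only [t3f, lin_add, Submodule.coe_add, mul_add, add_mul, LinearMap.add_apply, LinearMap.coe_mk,
        AddHom.coe_mk]))
    (fun c u v => LinearMap.ext fun w => Subtype.ext (by
      simp only [t3f, lin_smul, Submodule.coe_smul, smul_mul_assoc, mul_smul_comm, LinearMap.smul_apply,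
        LinearMap.coe_mk, AddHom.coe_mk]))

theorem t3_val (u v w : Fin 5 → k) : (t3 k u v w).1 = (lin u).1 * (lin v).1 * (lin w).1 := rfl

theorem t3_s12 (u v w : Fin 5 → k) : t3 k u v w = t3 k v u w :=
  Subtype.ext (by rw [t3_val, t3_val]; ring)

theorem t3_s23 (u v w : Fin 5 → k) : t3 k u v w = t3 k u w v :=
  Subtype.ext (by rw [t3_val, t3_val]; ring)

theorem eval_t3 (u v w x : Fin 5 → k) : eval x (t3 k u v w).1 = (u ⬝ᵥ x) * (v ⬝ᵥ x) * (w ⬝ᵥ x) := by
  rw [t3_val, map_mul, map_mul, eval_lin, eval_lin, eval_lin]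
  rfl

/-- coordinate forms -/
def ee (i : Fin 5) : Fin 5 → k := Pi.single i 1

/-- `lin u * quad M` -/
noncomputable def LH (k : Type u) [Field k] : (Fin 5 → k) →ₗ[k] (Fin 5 → Fin 5 → k) →ₗ[k] Form 4 k 3 :=
  LinearMap.mk₂ k (fun u M => ∑ a, ∑ b, M a b • t3 k u (ee a) (ee b))
    (fun u u' M => by
      simp only [map_add, LinearMap.add_apply, smul_add, Finset.sum_add_distrib])
    (fun c u M => by
      simp only [map_smul, LinearMap.smul_apply, Finset.smul_sum]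
      exact Finset.sum_congr rfl fun a _ => Finset.sum_congr rfl fun b _ => smul_comm _ _ _)
    (fun u M M' => by
      simp only [Pi.add_apply, add_smul, Finset.sum_add_distrib])
    (fun c u M => by
      simp only [Pi.smul_apply, smul_eq_mul, mul_smul, Finset.smul_sum])

theorem LH_apply (u : Fin 5 → k) (M : Fin 5 → Fin 5 → k) : LH k u M = ∑ a, ∑ b, M a b • t3 k u (ee a) (ee b) := rfl

theorem lin_ee (i : Fin 5) : (lin (ee i : Fin 5 → k)).1 = X i := by
  classical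
  simp only [lin, ee]
  rw [Finset.sum_eq_single i]
  · simp
  · intro b _ hb
    simp [Pi.single_eq_of_ne hb]
  · simp

theorem LH_val (u : Fin 5 → k) (M : Fin 5 → Fin 5 → k) : (LH k u M).1 = (lin u).1 * (quad M).1 := by
  rw [LH_apply]
  simp only [quad, Submodule.coe_sum, Submodule.coe_smul, t3_val, lin_ee, Finset.mul_sum]
  refine Finset.sum_congr rfl fun a _ => Finset.sum_congr rfl fun b _ => ?_
  rw [mul_smul_comm, mul_assoc]

/-- the quadratic form as a function -/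
def qf (M : Fin 5 → Fin 5 → k) (x : Fin 5 → k) : k := ∑ a, ∑ b, M a b * (x a * x b)

theorem eval_LH (u : Fin 5 → k) (M : Fin 5 → Fin 5 → k) (x : Fin 5 → k) :
    eval x (LH k u M).1 = (u ⬝ᵥ x) * qf M x := by
  rw [LH_val, map_mul, eval_lin, eval_quad]
  rfl

/-- `(h, Q, v, P, y)` -/
abbrev Dat (k : Type u) : Type u :=
  (Fin 5 → k) × (Fin 5 → Fin 5 → k) × (Fin 2 → Fin 5 → k) × (Fin 2 → Fin 2 → Fin 5 → k) × (Fin 2 → Fin 5 → k)

/-- `h Q + ∑ v_i P_ij y_j` -/
noncomputable def H (q : Dat k) : Form 4 k 3 :=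
  LH k q.1 q.2.1 + ∑ i, ∑ j, t3 k (q.2.2.1 i) (q.2.2.2.1 i j) (q.2.2.2.2 j)

/-- the decompositions of `f` -/
def Dec (f : Form 4 k 3) : Set (Dat k) := {q | H q = f}

theorem eval_H (q : Dat k) (x : Fin 5 → k) :
    eval x (H q).1 = (q.1 ⬝ᵥ x) * qf q.2.1 x +
      ∑ i, ∑ j, (q.2.2.1 i ⬝ᵥ x) * (q.2.2.2.1 i j ⬝ᵥ x) * (q.2.2.2.2 j ⬝ᵥ x) := by
  simp only [H, Submodule.coe_add, map_add, eval_LH, Submodule.coe_sum, map_sum, eval_t3]

/-- the derivative of `H` -/
noncomputable def DH (q : Dat k) : Dat k →ₗ[k] Form 4 k 3 where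
  toFun d := LH k d.1 q.2.1 + LH k q.1 d.2.1 + ∑ i, ∑ j, (t3 k (d.2.2.1 i) (q.2.2.2.1 i j) (q.2.2.2.2 j) +
    t3 k (q.2.2.1 i) (d.2.2.2.1 i j) (q.2.2.2.2 j) + t3 k (q.2.2.1 i) (q.2.2.2.1 i j) (d.2.2.2.2 j))
  map_add' d d' := by
    simp only [Prod.fst_add, Prod.snd_add, Pi.add_apply, map_add, LinearMap.add_apply, Finset.sum_add_distrib]
    abel
  map_smul' c d := by
    simp only [Prod.smul_fst, Prod.smul_snd, Pi.smul_apply, map_smul, LinearMap.smul_apply, RingHom.id_apply,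
      Finset.smul_sum, smul_add]

theorem DH_apply (q d : Dat k) : DH q d = LH k d.1 q.2.1 + LH k q.1 d.2.1 +
    ∑ i, ∑ j, (t3 k (d.2.2.1 i) (q.2.2.2.1 i j) (q.2.2.2.2 j) +
    t3 k (q.2.2.1 i) (d.2.2.2.1 i j) (q.2.2.2.2 j) + t3 k (q.2.2.1 i) (q.2.2.2.1 i j) (d.2.2.2.2 j)) := rfl

theorem H_add (q d : Dat k) :
    ∃ e₂ e₃ : Form 4 k 3, ∀ τ : k, H (q + τ • d) = H q + τ • DH q d + τ ^ 2 • (e₂ + τ • e₃) := by
  refine ⟨LH k d.1 d.2.1 + ∑ i, ∑ j, (t3 k (d.2.2.1 i) (d.2.2.2.1 i j) (q.2.2.2.2 j) +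
    t3 k (d.2.2.1 i) (q.2.2.2.1 i j) (d.2.2.2.2 j) + t3 k (q.2.2.1 i) (d.2.2.2.1 i j) (d.2.2.2.2 j)),
    ∑ i, ∑ j, t3 k (d.2.2.1 i) (d.2.2.2.1 i j) (d.2.2.2.2 j), fun τ => ?_⟩
  simp only [H, DH_apply, Prod.fst_add, Prod.snd_add, Prod.smul_fst, Prod.smul_snd, Pi.add_apply, Pi.smul_apply,
    map_add, map_smul, LinearMap.add_apply, LinearMap.smul_apply, Finset.sum_add_distrib, ← Finset.smul_sum,
    smul_add, smul_smul]
  module

theorem pm_t3 {W : Type u} [AddCommGroup W] [Module k W] {f g h : W → Fin 5 → k} (hf : IsPolyMap k f)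
    (hg : IsPolyMap k g) (hh : IsPolyMap k h) : IsPolyMap k (fun x => t3 k (f x) (g x) (h x)) := by
  have hfin : Module.Finite k (Form 4 k 3) := Groth.Agent.Lefpen.H703.NondegOpen.finite_form 4 3
  have h1 := K713.RangeOpen.pm_bilin (W := (Fin 5 → k) →ₗ[k] Form 4 k 3) (t3 k) hf hg
  exact K713.RangeOpen.pm_bilin (E := (Fin 5 → k) →ₗ[k] Form 4 k 3) LinearMap.id h1 hh

theorem pm_LH {W : Type u} [AddCommGroup W] [Module k W] {f : W → Fin 5 → k} {M : W → Fin 5 → Fin 5 → k}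
    (hf : IsPolyMap k f) (hM : IsPolyMap k M) : IsPolyMap k (fun x => LH k (f x) (M x)) :=
  K713.RangeOpen.pm_bilin (LH k) hf hM

theorem pm_proj {W : Type u} [AddCommGroup W] [Module k W] {ι : Type} (i : ι) :
    IsPolyMap k (fun a : ι → W => a i) :=
  isPolyMap_linear (LinearMap.proj (R := k) (φ := fun _ : ι => W) i)

theorem pm_v (i : Fin 2) : IsPolyMap k (fun q : Dat k => q.2.2.1 i) :=
  pm_comp (pm_proj i) (pm_comp isPolyMap_fst (pm_comp isPolyMap_snd isPolyMap_snd))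

theorem pm_P (i j : Fin 2) : IsPolyMap k (fun q : Dat k => q.2.2.2.1 i j) :=
  pm_comp (pm_proj j) (pm_comp (pm_proj i) (pm_comp isPolyMap_fst
    (pm_comp isPolyMap_snd (pm_comp isPolyMap_snd isPolyMap_snd))))

theorem pm_y (j : Fin 2) : IsPolyMap k (fun q : Dat k => q.2.2.2.2 j) :=
  pm_comp (pm_proj j) (pm_comp isPolyMap_snd (pm_comp isPolyMap_snd (pm_comp isPolyMap_snd isPolyMap_snd)))

theorem pm_sum' {X A : Type u} [AddCommGroup X] [Module k X] [AddCommGroup A] [Module k A] {ι : Type*}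
    (s : Finset ι) {φ : ι → X → A} (h : ∀ i ∈ s, IsPolyMap k (φ i)) : IsPolyMap k (fun v => ∑ i ∈ s, φ i v) := by
  intro l
  simp only [map_sum]
  exact pf_sum s fun i hi => h i hi l

theorem pm_H : IsPolyMap k (H : Dat k → Form 4 k 3) :=
  pm_add (pm_LH isPolyMap_fst (pm_comp isPolyMap_fst isPolyMap_snd))
    (pm_sum' _ fun i _ => pm_sum' _ fun j _ => pm_t3 (pm_v i) (pm_P i j) (pm_y j))

/-! ### symmetry -/

/-- exchange `v` and `y` -/
def swap (q : Dat k) : Dat k := (q.1, q.2.1, q.2.2.2.2, fun i j => q.2.2.2.1 j i, q.2.2.1)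

theorem t3_s13 (u v w : Fin 5 → k) : t3 k u v w = t3 k w v u :=
  Subtype.ext (by rw [t3_val, t3_val]; ring)

theorem H_swap (q : Dat k) : H (swap q) = H q := by
  have h : ∑ i, ∑ j, t3 k (q.2.2.2.2 i) (q.2.2.2.1 j i) (q.2.2.1 j) =
      ∑ i, ∑ j, t3 k (q.2.2.1 i) (q.2.2.2.1 i j) (q.2.2.2.2 j) := by
    rw [Finset.sum_comm]
    exact Finset.sum_congr rfl fun i _ => Finset.sum_congr rfl fun j _ => t3_s13 _ _ _
  change LH k q.1 q.2.1 + _ = LH k q.1 q.2.1 + _
  rw [← h]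
  rfl

/-! ### singular points -/

theorem qf_add (M : Fin 5 → Fin 5 → k) (z w : Fin 5 → k) (τ : k) :
    qf M (z + τ • w) = qf M z + τ * (∑ a, ∑ b, M a b * (z a * w b + w a * z b)) + τ ^ 2 * qf M w := by
  simp only [qf, Pi.add_apply, Pi.smul_apply, smul_eq_mul, Finset.mul_sum, ← Finset.sum_add_distrib]
  refine Finset.sum_congr rfl fun a _ => Finset.sum_congr rfl fun b _ => ?_
  ring

theorem lin_unique [Infinite k] {a a' b b' c c' : k}
    (h : ∀ τ : k, τ * a + τ ^ 2 * (b + τ * c) = τ * a' + τ ^ 2 * (b' + τ * c')) : a = a' := by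
  have h1 : Polynomial.X * (Polynomial.C a + Polynomial.X * (Polynomial.C b + Polynomial.X * Polynomial.C c)) =
      Polynomial.X * (Polynomial.C a' + Polynomial.X * (Polynomial.C b' + Polynomial.X * Polynomial.C c')) := by
    refine Polynomial.funext fun τ => ?_
    simp only [Polynomial.eval_add, Polynomial.eval_mul, Polynomial.eval_X, Polynomial.eval_C]
    linear_combination h τ
  have h2 := mul_left_cancel₀ Polynomial.X_ne_zero h1
  have h3 := congrArg (Polynomial.eval 0) h2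
  simpa using h3

theorem sing [CharZero k] {f : Form 4 k 3} (hsm : SmoothOn (tri f.1) ⊤) {q : Dat k} (hq : H q = f)
    {z : Fin 5 → k} (hz0 : z ≠ 0) (h1 : q.1 ⬝ᵥ z = 0) (h2 : qf q.2.1 z = 0) (h3 : ∀ i, q.2.2.1 i ⬝ᵥ z = 0)
    (h4 : ∀ i, ∑ j, (q.2.2.2.1 i j ⬝ᵥ z) * (q.2.2.2.2 j ⬝ᵥ z) = 0) : False := by
  have hf : f.1.IsHomogeneous 3 := (mem_homogeneousSubmodule _ _).1 f.2
  have hinf : Infinite k := Infinite.of_injective (Nat.cast : ℕ → k) Nat.cast_injective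
  have h5 : tri f.1 z z z = 0 := by
    rw [tri_diag hf, ← hq, eval_H, h1]
    simp [h3]
  obtain ⟨w, -, hw⟩ := hsm z trivial hz0 h5
  apply hw
  have h6 : ∀ τ : k, tri f.1 (z + τ • w) (z + τ • w) (z + τ • w) = eval (z + τ • w) (H q).1 := by
    intro τ
    rw [tri_diag hf, hq]
  have h7 : (3 : k) * tri f.1 z z w = 0 := by
    refine lin_unique (b := 3 * tri f.1 z w w) (c := tri f.1 w w w)
      (b' := (q.1 ⬝ᵥ w) * (∑ a, ∑ b, q.2.1 a b * (z a * w b + w a * z b)) +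
        ∑ i, (q.2.2.1 i ⬝ᵥ w) * ∑ j, ((q.2.2.2.1 i j ⬝ᵥ z) * (q.2.2.2.2 j ⬝ᵥ w) +
          (q.2.2.2.1 i j ⬝ᵥ w) * (q.2.2.2.2 j ⬝ᵥ z)))
      (c' := (q.1 ⬝ᵥ w) * qf q.2.1 w + ∑ i, (q.2.2.1 i ⬝ᵥ w) * ∑ j, (q.2.2.2.1 i j ⬝ᵥ w) * (q.2.2.2.2 j ⬝ᵥ w))
      fun τ => ?_
    have h8 := h6 τ
    rw [(tri_sym f.1).cube_add_smul, eval_H, qf_add, h2, h5] at h8
    have h40 := h4 0
    have h41 := h4 1
    simp only [dotProduct_add, dotProduct_smul, smul_eq_mul, h1, h3, Fin.sum_univ_two] at h8 h40 h41 ⊢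
    linear_combination h8 + τ * (q.2.2.1 0 ⬝ᵥ w) * h40 + τ * (q.2.2.1 1 ⬝ᵥ w) * h41
  have h3' : (3 : k) ≠ 0 := by norm_num
  exact (mul_eq_zero.1 h7).resolve_left h3'

theorem sing' [CharZero k] {f : Form 4 k 3} (hsm : SmoothOn (tri f.1) ⊤) {q : Dat k} (hq : H q = f)
    {z : Fin 5 → k} (hz0 : z ≠ 0) (h1 : q.1 ⬝ᵥ z = 0) (h2 : qf q.2.1 z = 0) (h3 : ∀ j, q.2.2.2.2 j ⬝ᵥ z = 0)
    (h4 : ∀ j, ∑ i, (q.2.2.2.1 i j ⬝ᵥ z) * (q.2.2.1 i ⬝ᵥ z) = 0) : False :=
  sing hsm (q := swap q) (by rw [H_swap, hq]) hz0 h1 h2 h3 h4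

/-- `f` vanishes on no three-dimensional subspace given by two linear equations -/
theorem no_plane_eqs [IsAlgClosed k] [CharZero k] {f : Form 4 k 3} (hsm : SmoothOn (tri f.1) ⊤)
    {n : ℕ} (w : Fin n → Fin 5 → k) (hr : finrank k ↥(Submodule.span k (Set.range w)) ≤ 2)
    (h : ∀ z : Fin 5 → k, (∀ i, w i ⬝ᵥ z = 0) → eval z f.1 = 0) : False := by
  have hf : f.1.IsHomogeneous 3 := (mem_homogeneousSubmodule _ _).1 f.2
  let L : (Fin 5 → k) →ₗ[k] (Fin n → k) := (Matrix.of w).mulVecLin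
  have h1 : finrank k ↥(LinearMap.range L) ≤ 2 := by
    have h2 : (Matrix.of w).rank = finrank k ↥(Submodule.span k (Set.range w)) :=
      Matrix.rank_eq_finrank_span_row (Matrix.of w)
    rw [Matrix.rank] at h2
    exact h2.le.trans hr
  have h2 := LinearMap.finrank_range_add_finrank_ker L
  have h3 : finrank k (Fin 5 → k) = 5 := by simp
  obtain ⟨P, hP, hP3⟩ : ∃ P : Submodule k (Fin 5 → k), P ≤ LinearMap.ker L ∧ finrank k ↥P = 3 := by
    have h4 : 3 ≤ finrank k ↥(LinearMap.ker L) := by omega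
    obtain ⟨v, hv⟩ := exists_linearIndependent_of_le_finrank h4
    refine ⟨Submodule.span k (Set.range fun i => (v i : Fin 5 → k)), ?_, ?_⟩
    · rw [Submodule.span_le]
      rintro _ ⟨i, rfl⟩
      exact (v i).2
    · have h5 := finrank_span_eq_card (hv.map' (Submodule.subtype _) (Submodule.ker_subtype _))
      rw [Fintype.card_fin] at h5
      exact h5
  refine K714.TypeConst.no_plane (tri_sym f.1) (by simp) hsm hP3 fun v hv => ?_
  rw [tri_diag hf]
  refine h v fun i => ?_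
  have := hP hv
  rw [LinearMap.mem_ker] at this
  exact congrFun this i

end K105.Sol4
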