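import Groth.Agent.Fano.K105.Sol4Irr
import Groth.Agent.Fano.K713.PPDef
import Groth.Agent.Fano.K409.DD
import Mathlib.LinearAlgebra.Matrix.Dual

/-!
# Decompositions on a hyperplane: `f = ∑ v_i P_ij y_j` on `h = 0`

`irr_S4`: the space `K713.PP.S4 (tri f)` is irreducible.
-/

set_option autoImplicit false

universe u

namespace K105.Sol4

open Module K656.Trilin K714.Surf LefPen Groth.Agent.Lefpen.H703.ZOpen K714.Irr MvPolynomial

variable {k : Type u} [Field k]

/-- A cubic form vanishing on a hyperplane is divisible by its equation. -/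
theorem exists_LH [CharZero k] {h : Fin 5 → k} (hh : h ≠ 0) (g : Form 4 k 3)
    (hg0 : ∀ x : Fin 5 → k, h ⬝ᵥ x = 0 → eval x g.1 = 0) : ∃ M, LH k h M = g := by
  classical
  have hg : g.1.IsHomogeneous 3 := (mem_homogeneousSubmodule _ _).1 g.2
  obtain ⟨i₀, hi₀⟩ : ∃ i, h i ≠ 0 := by
    by_contra hcon
    push Not at hcon
    exact hh (funext hcon)
  let x : Fin 5 → Fin 5 → k := fun a => if a = i₀ then h else ee a
  let z : Fin 5 → Fin 5 → k := fun b => if b = i₀ then (h i₀)⁻¹ • ee i₀ else ee b - (h b * (h i₀)⁻¹) • ee i₀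
  have hd : ∀ (u : Fin 5 → k) (i : Fin 5), u ⬝ᵥ ee i = u i := fun u i => by
    rw [dotProduct_comm, ee_dot]
  have hz : ∀ a b, x a ⬝ᵥ z b = if a = b then 1 else 0 := by
    intro a b
    by_cases ha : a = i₀
    · by_cases hb : b = i₀
      · rw [if_pos (ha.trans hb.symm)]
        simp only [x, z, if_pos ha, if_pos hb, dotProduct_smul, hd, smul_eq_mul]
        exact inv_mul_cancel₀ hi₀
      · rw [if_neg (fun h => hb (h.symm.trans ha))]
        simp only [x, z, if_pos ha, if_neg hb, dotProduct_sub, dotProduct_smul, hd, smul_eq_mul]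
        field_simp
        ring
    · by_cases hb : b = i₀
      · rw [if_neg (fun h => ha (h.trans hb))]
        simp only [x, z, if_neg ha, if_pos hb, dotProduct_smul, hd, smul_eq_mul]
        simp [ee, Ne.symm ha]
      · simp only [x, z, if_neg ha, if_neg hb, dotProduct_sub, dotProduct_smul, hd, smul_eq_mul]
        simp [ee, Pi.single_apply, Ne.symm ha, eq_comm]
  have hker : ∀ b, b ≠ i₀ → h ⬝ᵥ z b = 0 := by
    intro b hb
    have := hz i₀ b
    rw [if_neg (Ne.symm hb)] at this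
    simpa [x] using this
  let U : Submodule k (Fin 5 → k) :=
    { carrier := {x | h ⬝ᵥ x = 0}
      zero_mem' := dotProduct_zero _
      add_mem' := fun {x y} hx hy => by
        change h ⬝ᵥ (x + y) = 0
        rw [dotProduct_add, show h ⬝ᵥ x = 0 from hx, show h ⬝ᵥ y = 0 from hy, add_zero]
      smul_mem' := fun c {x} hx => by
        change h ⬝ᵥ (c • x) = 0
        rw [dotProduct_smul, show h ⬝ᵥ x = 0 from hx, smul_zero] }
  have hU : ∀ u ∈ U, ∀ v ∈ U, ∀ w ∈ U, tri (n := 5) g.1 u v w = 0 := fun u hu v hv w hw =>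
    (tri_sym (n := 5) g.1).eq_zero_of_diag U (fun x hx => by rw [tri_diag hg]; exact hg0 x hx) hu hv hw
  have hm : ∀ u w, t3 k h u w ∈ LinearMap.range (LH k h) := fun u w => ⟨_, LH_tensor h u w⟩
  have key : g ∈ LinearMap.range (LH k h) := by
    rw [eq_sum_t3' hz g]
    refine Submodule.sum_mem _ fun i _ => Submodule.sum_mem _ fun j _ => Submodule.sum_mem _ fun l _ => ?_
    by_cases hi : i = i₀
    · have e : x i = h := if_pos hi
      rw [e]
      exact Submodule.smul_mem _ _ (hm _ _)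
    by_cases hj : j = i₀
    · have e : x j = h := if_pos hj
      rw [e, t3_s12]
      exact Submodule.smul_mem _ _ (hm _ _)
    by_cases hl : l = i₀
    · have e : x l = h := if_pos hl
      rw [e, t3_s13]
      exact Submodule.smul_mem _ _ (hm _ _)
    rw [hU _ (hker i hi) _ (hker j hj) _ (hker l hl), zero_smul]
    exact Submodule.zero_mem _
  exact key

/-- the linear form with given coefficients -/
noncomputable def dl : (Fin 5 → k) ≃ₗ[k] Module.Dual k (Fin 5 → k) := dotProductEquiv k (Fin 5)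

theorem dl_apply (u x : Fin 5 → k) : dl u x = u ⬝ᵥ x := rfl

/-- forget `Q` -/
noncomputable def toS4 : Dat k →ₗ[k] K713.PP.E k × (Fin 2 → K713.PP.E k) × (Fin 2 → Fin 2 → K713.PP.E k) ×
    (Fin 2 → K713.PP.E k) where
  toFun q := (dl q.1, fun i => dl (q.2.2.1 i), fun i j => dl (q.2.2.2.1 i j), fun j => dl (q.2.2.2.2 j))
  map_add' q q' := by
    simp only [Prod.fst_add, Prod.snd_add, Pi.add_apply, map_add]
    rfl
  map_smul' c q := by
    simp only [Prod.smul_fst, Prod.smul_snd, Pi.smul_apply, map_smul, RingHom.id_apply]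
    rfl

theorem image_toS4 [IsAlgClosed k] [CharZero k] {f : Form 4 k 3} (hsm : SmoothOn (tri (n := 5) f.1) ⊤) :
    toS4 '' Dec f = K713.PP.S4 (tri (n := 5) f.1) := by
  have hf : f.1.IsHomogeneous 3 := (mem_homogeneousSubmodule _ _).1 f.2
  ext p
  constructor
  · rintro ⟨q, hq, rfl⟩
    refine ⟨fun h0 => ?_, fun x hx => ?_⟩
    · have h1 : q.1 = 0 := dl.map_eq_zero_iff.1 h0
      have h2 := (indep_hv hsm hq).ne_zero 0
      exact h2 h1
    · have hx' : q.1 ⬝ᵥ x = 0 := hx
      rw [tri_diag hf, ← (show H q = f from hq), eval_H, hx', zero_mul, zero_add]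
      rfl
  · rintro ⟨h0, h1⟩
    obtain ⟨h, v, P, y⟩ := p
    let q : Dat k := (dl.symm h, 0, fun i => dl.symm (v i), fun i j => dl.symm (P i j), fun j => dl.symm (y j))
    have hd : ∀ (φ : Module.Dual k (Fin 5 → k)) (x : Fin 5 → k), dl.symm φ ⬝ᵥ x = φ x := fun φ x => by
      rw [← dl_apply, LinearEquiv.apply_symm_apply]
    have hh : dl.symm h ≠ 0 := fun h2 => h0 (dl.symm.map_eq_zero_iff.1 h2)
    obtain ⟨M, hM⟩ := exists_LH hh (f - H q) (fun x hx => by
      have hx' : h x = 0 := by rw [← hd]; exact hx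
      have h2 := h1 x hx'
      rw [tri_diag hf] at h2
      have h3 := eval_H q x
      rw [Submodule.coe_sub, map_sub, h2, h3, show q.1 ⬝ᵥ x = 0 from hx, zero_mul, zero_add, sub_eq_zero]
      refine Finset.sum_congr rfl fun i _ => Finset.sum_congr rfl fun j _ => ?_
      rw [show q.2.2.1 i ⬝ᵥ x = v i x from hd _ _, show q.2.2.2.1 i j ⬝ᵥ x = P i j x from hd _ _,
        show q.2.2.2.2 j ⬝ᵥ x = y j x from hd _ _])
    refine ⟨(dl.symm h, M, q.2.2.1, q.2.2.2.1, q.2.2.2.2), ?_, ?_⟩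
    · change LH k (dl.symm h) M + ∑ i, ∑ j, t3 k (q.2.2.1 i) (q.2.2.2.1 i j) (q.2.2.2.2 j) = f
      have h4 : H q = ∑ i, ∑ j, t3 k (q.2.2.1 i) (q.2.2.2.1 i j) (q.2.2.2.2 j) := by
        change LH k (dl.symm h) 0 + _ = _
        rw [map_zero, zero_add]
      rw [hM, ← h4, sub_add_cancel]
    · change (dl (dl.symm h), (fun i => dl (dl.symm (v i))), (fun i j => dl (dl.symm (P i j))),
        (fun j => dl (dl.symm (y j)))) = _
      simp only [LinearEquiv.apply_symm_apply]

/-- **Irreducibility of the decompositions on a hyperplane.** -/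
theorem irr_S4 [IsAlgClosed k] [CharZero k] {f : MvPolynomial (Fin 5) k} (hf : f.IsHomogeneous 3)
    (hsm : SmoothOn (tri f) ⊤) : Irr k (K713.PP.S4 (tri f)) := by
  obtain ⟨g, hg⟩ : ∃ g : Form 4 k 3, g.1 = f := ⟨⟨f, (mem_homogeneousSubmodule _ _).2 hf⟩, rfl⟩
  subst hg
  rw [← image_toS4 (f := g) hsm]
  have h1 : IsPolyMap k (⇑(toS4 (k := k))) := isPolyMap_linear (k := k) (toS4 (k := k))
  exact (irr_dec (f := g) hsm).image h1

theorem irr_S4' [IsAlgClosed k] [CharZero k] {f : MvPolynomial (Fin 5) k} (hf : f.IsHomogeneous 3)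
    (hsm : SmoothOn (tri f) ⊤) : Irr k (K409.DD.S4 (fun x => tri f x x x)) := irr_S4 hf hsm

theorem irr_DDh [IsAlgClosed k] [CharZero k] {f : MvPolynomial (Fin 5) k} (hf : f.IsHomogeneous 3)
    (hsm : SmoothOn (tri f) ⊤) : Irr k (K713.PP.DDh (tri f)) := K409.DD.irr_DDh (irr_S4' hf hsm)

end K105.Sol4
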