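import Groth.Agent.Fano.K105.Sol4Leave
import Groth.Agent.Fano.K483.LineConf

/-!
# Decompositions `f = h Q + ∑ v_i P_ij y_j`: irreducibility

`irr_dec`: the set `Dec f` of decompositions of a smooth cubic threefold is irreducible (char 0, algebraically closed).
-/

set_option autoImplicit false

universe u

namespace K105.Sol4

open Module K656.Trilin K714.Surf LefPen Groth.Agent.Lefpen.H703.ZOpen K714.Irr MvPolynomial K714.Frames
  Groth.Agent.Fano.K714.Quart Groth.Agent.Fano.K714.Rat K324.QuartIrr K105.Sol4Alg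

variable {k : Type u} [Field k]

/-- `(h, v, y)` -/
abbrev Bs (k : Type u) : Type u := (Fin 5 → k) × (Fin 2 → Fin 5 → k) × (Fin 2 → Fin 5 → k)

/-- `(Q, P)` -/
abbrev Fb (k : Type u) : Type u := (Fin 5 → Fin 5 → k) × (Fin 2 → Fin 2 → Fin 5 → k)

def SkewB (b : Bs k) : Prop :=
  ∀ x : Fin 5 → k, b.1 ⬝ᵥ x = 0 → (∀ i, b.2.1 i ⬝ᵥ x = 0) → (∀ j, b.2.2 j ⬝ᵥ x = 0) → x = 0

def xs (b : Bs k) : Fin 5 → Fin 5 → k := ![b.1, b.2.1 0, b.2.1 1, b.2.2 0, b.2.2 1]

theorem skewB_iff (b : Bs k) : SkewB b ↔ (Matrix.of (xs b)).det ≠ 0 := by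
  constructor
  · intro h h0
    obtain ⟨v, hv0, hv⟩ := Matrix.exists_mulVec_eq_zero_iff.2 h0
    refine hv0 (h v (congrFun hv 0) (fun i => ?_) fun j => ?_)
    · fin_cases i
      · exact congrFun hv 1
      · exact congrFun hv 2
    · fin_cases j
      · exact congrFun hv 3
      · exact congrFun hv 4
  · intro h x h1 h2 h3
    refine Matrix.eq_zero_of_mulVec_eq_zero h ?_
    funext i
    fin_cases i
    · exact h1
    · exact h2 0
    · exact h2 1
    · exact h3 0
    · exact h3 1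

theorem SkewB.indep {b : Bs k} (h : SkewB b) : LinearIndependent k (xs b) := by
  have h1 : IsUnit (Matrix.of (xs b)) := (Matrix.isUnit_iff_isUnit_det _).2 (IsUnit.mk0 _ ((skewB_iff b).1 h))
  exact Matrix.linearIndependent_rows_iff_isUnit.2 h1

/-- the linear system -/
noncomputable def AA (b : Bs k) : Fb k →ₗ[k] Form 4 k 3 where
  toFun w := LH k b.1 w.1 + ∑ i, ∑ j, t3 k (b.2.1 i) (w.2 i j) (b.2.2 j)
  map_add' w w' := by
    simp only [Prod.fst_add, Prod.snd_add, Pi.add_apply, map_add, LinearMap.add_apply, Finset.sum_add_distrib]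
    abel
  map_smul' c w := by
    simp only [Prod.smul_fst, Prod.smul_snd, Pi.smul_apply, map_smul, LinearMap.smul_apply, RingHom.id_apply,
      Finset.smul_sum, smul_add]

theorem AA_apply (b : Bs k) (w : Fb k) :
    AA b w = LH k b.1 w.1 + ∑ i, ∑ j, t3 k (b.2.1 i) (w.2 i j) (b.2.2 j) := rfl

theorem mem0 (b : Bs k) (u w : Fin 5 → k) : t3 k b.1 u w ∈ LinearMap.range (AA b) := by
  refine ⟨(fun a b => u a * w b, 0), ?_⟩
  rw [AA_apply, LH_tensor]
  simp

theorem mem1 (b : Bs k) (i j : Fin 2) (u : Fin 5 → k) : t3 k (b.2.1 i) u (b.2.2 j) ∈ LinearMap.range (AA b) := by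
  classical
  refine ⟨(0, Pi.single i (Pi.single j u)), ?_⟩
  rw [AA_apply, Finset.sum_eq_single i, Finset.sum_eq_single j]
  · simp
  · intro j' _ hj
    simp [Pi.single_eq_of_ne hj]
  · simp
  · intro i' _ hi
    simp [Pi.single_eq_of_ne hi]
  · simp

theorem eq_sum_t3' [CharZero k] {x z : Fin 5 → Fin 5 → k} (hz : ∀ a b, x a ⬝ᵥ z b = if a = b then 1 else 0)
    (g : Form 4 k 3) :
    g = ∑ a, ∑ b, ∑ c, tri (n := 5) g.1 (z a) (z b) (z c) • t3 k (x a) (x b) (x c) := by
  have hg : g.1.IsHomogeneous 3 := (mem_homogeneousSubmodule _ _).1 g.2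
  have hinf : Infinite k := Infinite.of_injective (Nat.cast : ℕ → k) Nat.cast_injective
  refine Subtype.ext (MvPolynomial.funext (σ := Fin 5) fun (y : Fin 5 → k) => ?_)
  rw [← tri_diag hg]
  simp only [Submodule.coe_sum, Submodule.coe_smul, map_sum, MvPolynomial.smul_eval, eval_t3]
  have hz' : ∀ a b, z a ⬝ᵥ x b = if a = b then 1 else 0 := fun a b => by
    rw [dotProduct_comm, hz]
    simp only [eq_comm]
  have key : ∀ {W : Type u} [AddCommMonoid W] [Module k W] (L : (Fin 5 → k) →ₗ[k] W),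
      L y = ∑ a, (x a ⬝ᵥ y) • L (z a) := by
    intro W _ _ L
    conv_lhs => rw [expand hz' y]
    simp only [map_sum, map_smul, dotProduct_comm y]
  rw [key (tri (n := 5) g.1), LinearMap.sum_apply, LinearMap.sum_apply]
  refine Finset.sum_congr rfl fun i _ => ?_
  rw [LinearMap.smul_apply, LinearMap.smul_apply, key (tri (n := 5) g.1 (z i)), LinearMap.sum_apply, Finset.smul_sum]
  refine Finset.sum_congr rfl fun j _ => ?_
  rw [LinearMap.smul_apply, key (tri (n := 5) g.1 (z i) (z j)), Finset.smul_sum, Finset.smul_sum]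
  refine Finset.sum_congr rfl fun l _ => ?_
  simp only [smul_eq_mul]
  ring

theorem eval_AA (b : Bs k) (w : Fb k) (x : Fin 5 → k) : eval x (AA b w).1 = (b.1 ⬝ᵥ x) * qf w.1 x +
      ∑ i, ∑ j, (b.2.1 i ⬝ᵥ x) * (w.2 i j ⬝ᵥ x) * (b.2.2 j ⬝ᵥ x) := by
  simp only [AA_apply, Submodule.coe_add, map_add, eval_LH, Submodule.coe_sum, map_sum, eval_t3]

theorem mem_range [CharZero k] {b : Bs k} (hb : SkewB b) (g : Form 4 k 3) :
    g ∈ LinearMap.range (AA b) ↔
      (∀ x : Fin 5 → k, b.1 ⬝ᵥ x = 0 → (∀ i, b.2.1 i ⬝ᵥ x = 0) → eval x g.1 = 0) ∧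
      (∀ x : Fin 5 → k, b.1 ⬝ᵥ x = 0 → (∀ j, b.2.2 j ⬝ᵥ x = 0) → eval x g.1 = 0) := by
  constructor
  · rintro ⟨w, rfl⟩
    refine ⟨fun x h1 h2 => ?_, fun x h1 h2 => ?_⟩
    · rw [eval_AA, h1]
      simp [h2]
    · rw [eval_AA, h1]
      simp [h2]
  · rintro ⟨h1, h2⟩
    have hg : g.1.IsHomogeneous 3 := (mem_homogeneousSubmodule _ _).1 g.2
    obtain ⟨z, hz⟩ := exists_dual hb.indep
    let Uv : Submodule k (Fin 5 → k) :=
      { carrier := {x | b.1 ⬝ᵥ x = 0 ∧ ∀ i, b.2.1 i ⬝ᵥ x = 0}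
        zero_mem' := ⟨dotProduct_zero _, fun i => dotProduct_zero _⟩
        add_mem' := fun {x y} hx hy => ⟨by rw [dotProduct_add, hx.1, hy.1, add_zero], fun i => by
          rw [dotProduct_add, hx.2, hy.2, add_zero]⟩
        smul_mem' := fun c {x} hx => ⟨by rw [dotProduct_smul, hx.1, smul_zero], fun i => by
          rw [dotProduct_smul, hx.2, smul_zero]⟩ }
    let Uy : Submodule k (Fin 5 → k) :=
      { carrier := {x | b.1 ⬝ᵥ x = 0 ∧ ∀ i, b.2.2 i ⬝ᵥ x = 0}
        zero_mem' := ⟨dotProduct_zero _, fun i => dotProduct_zero _⟩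
        add_mem' := fun {x y} hx hy => ⟨by rw [dotProduct_add, hx.1, hy.1, add_zero], fun i => by
          rw [dotProduct_add, hx.2, hy.2, add_zero]⟩
        smul_mem' := fun c {x} hx => ⟨by rw [dotProduct_smul, hx.1, smul_zero], fun i => by
          rw [dotProduct_smul, hx.2, smul_zero]⟩ }
    have hUv : ∀ u ∈ Uv, ∀ v ∈ Uv, ∀ w ∈ Uv, tri (n := 5) g.1 u v w = 0 := fun u hu v hv w hw =>
      (tri_sym (n := 5) g.1).eq_zero_of_diag Uv (fun x hx => by rw [tri_diag hg]; exact h1 x hx.1 hx.2) hu hv hw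
    have hUy : ∀ u ∈ Uy, ∀ v ∈ Uy, ∀ w ∈ Uy, tri (n := 5) g.1 u v w = 0 := fun u hu v hv w hw =>
      (tri_sym (n := 5) g.1).eq_zero_of_diag Uy (fun x hx => by rw [tri_diag hg]; exact h2 x hx.1 hx.2) hu hv hw
    have cls : ∀ a, xs b a = b.1 ∨ (∃ i, xs b a = b.2.1 i ∧ z a ∈ Uy) ∨ (∃ j, xs b a = b.2.2 j ∧ z a ∈ Uv) := by
      have e0 : ∀ a, b.1 ⬝ᵥ z a = if 0 = a then 1 else 0 := fun a => hz 0 a
      have e1 : ∀ a, b.2.1 0 ⬝ᵥ z a = if 1 = a then 1 else 0 := fun a => hz 1 a
      have e2 : ∀ a, b.2.1 1 ⬝ᵥ z a = if 2 = a then 1 else 0 := fun a => hz 2 a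
      have e3 : ∀ a, b.2.2 0 ⬝ᵥ z a = if 3 = a then 1 else 0 := fun a => hz 3 a
      have e4 : ∀ a, b.2.2 1 ⬝ᵥ z a = if 4 = a then 1 else 0 := fun a => hz 4 a
      intro a
      fin_cases a
      · exact Or.inl rfl
      · refine Or.inr (Or.inl ⟨0, rfl, by rw [e0]; rfl, fun j => ?_⟩)
        fin_cases j
        · exact e3 1
        · exact e4 1
      · refine Or.inr (Or.inl ⟨1, rfl, by rw [e0]; rfl, fun j => ?_⟩)
        fin_cases j
        · exact e3 2
        · exact e4 2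
      · refine Or.inr (Or.inr ⟨0, rfl, by rw [e0]; rfl, fun j => ?_⟩)
        fin_cases j
        · exact e1 3
        · exact e2 3
      · refine Or.inr (Or.inr ⟨1, rfl, by rw [e0]; rfl, fun j => ?_⟩)
        fin_cases j
        · exact e1 4
        · exact e2 4
    rw [eq_sum_t3' hz g]
    refine Submodule.sum_mem _ fun i _ => Submodule.sum_mem _ fun j _ => Submodule.sum_mem _ fun l _ => ?_
    have hmem : tri (n := 5) g.1 (z i) (z j) (z l) ≠ 0 → t3 k (xs b i) (xs b j) (xs b l) ∈ LinearMap.range (AA b) := by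
      intro hne
      rcases cls i with hi | hi
      · rw [hi]
        exact mem0 b _ _
      rcases cls j with hj | hj
      · rw [hj, t3_s12]
        exact mem0 b _ _
      rcases cls l with hl | hl
      · rw [hl, t3_s13]
        exact mem0 b _ _
      rcases hi with ⟨i', hi, hi'⟩ | ⟨i', hi, hi'⟩
      · rcases hl with ⟨l', hl, hl'⟩ | ⟨l', hl, hl'⟩
        · rcases hj with ⟨j', hj, hj'⟩ | ⟨j', hj, hj'⟩
          · exact absurd (hUy _ hi' _ hj' _ hl') hne
          · rw [hi, hj, t3_s23]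
            exact mem1 b _ _ _
        · rw [hi, hl]
          exact mem1 b _ _ _
      · rcases hl with ⟨l', hl, hl'⟩ | ⟨l', hl, hl'⟩
        · rw [hi, hl, t3_s13]
          exact mem1 b _ _ _
        · rcases hj with ⟨j', hj, hj'⟩ | ⟨j', hj, hj'⟩
          · rw [hj, hl, t3_s12]
            exact mem1 b _ _ _
          · exact absurd (hUv _ hi' _ hj' _ hl') hne
    by_cases hne : tri (n := 5) g.1 (z i) (z j) (z l) = 0
    · rw [hne, zero_smul]
      exact Submodule.zero_mem _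
    · exact Submodule.smul_mem _ _ (hmem hne)

/-- The rank is constant. -/
theorem finrank_AA [CharZero k] {b b' : Bs k} (hb : SkewB b) (hb' : SkewB b') :
    finrank k ↥(LinearMap.range (AA b)) = finrank k ↥(LinearMap.range (AA b')) := by
  have hinf : Infinite k := Infinite.of_injective (Nat.cast : ℕ → k) Nat.cast_injective
  have hfin : Module.Finite k (Form 4 k 3) := Groth.Agent.Lefpen.H703.NondegOpen.finite_form 4 3
  have key : ∀ {b b' : Bs k} (hb : SkewB b) (hb' : SkewB b'),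
      finrank k ↥(LinearMap.range (AA b)) ≤ finrank k ↥(LinearMap.range (AA b')) := by
    intro b b' hb hb'
    let A : Matrix (Fin 5) (Fin 5) k := Matrix.of (xs b)
    let A₁ : Matrix (Fin 5) (Fin 5) k := Matrix.of (xs b')
    have u : IsUnit A.det := IsUnit.mk0 _ ((skewB_iff b).1 hb)
    have u₁ : IsUnit A₁.det := IsUnit.mk0 _ ((skewB_iff b').1 hb')
    have h1 : A * A⁻¹ = 1 := Matrix.mul_nonsing_inv A u
    have h2 : A⁻¹ * A = 1 := Matrix.nonsing_inv_mul A u
    have g1 : A₁ * A₁⁻¹ = 1 := Matrix.mul_nonsing_inv A₁ u₁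
    let σ : Form 4 k 3 →ₗ[k] Form 4 k 3 :=
      { toFun := fun g => ⟨S (A⁻¹ * A₁) g.1, (mem_homogeneousSubmodule _ _).2
          (hom_S _ ((mem_homogeneousSubmodule _ _).1 g.2))⟩
        map_add' := fun g h => Subtype.ext (by simp only [Submodule.coe_add, map_add])
        map_smul' := fun c g => Subtype.ext (by simp only [Submodule.coe_smul, map_smul, RingHom.id_apply]) }
    have hσ : Function.Injective σ := by
      intro g h hgh
      have e1 : S (A⁻¹ * A₁) g.1 = S (A⁻¹ * A₁) h.1 := congrArg Subtype.val hgh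
      have e2 : (A⁻¹ * A₁) * (A₁⁻¹ * A) = 1 := by
        rw [Matrix.mul_assoc, ← Matrix.mul_assoc A₁, g1, Matrix.one_mul, h2]
      have e3 := congrArg (S (A₁⁻¹ * A)) e1
      rw [S_S e2, S_S e2] at e3
      exact Subtype.ext e3
    have hxs : ∀ (x : Fin 5 → k) (a : Fin 5), xs b a ⬝ᵥ (A⁻¹ * A₁).mulVec x = xs b' a ⬝ᵥ x := by
      intro x a
      have h4 : xs b a ⬝ᵥ (A⁻¹ * A₁).mulVec x = (A.mulVec ((A⁻¹ * A₁).mulVec x)) a := rfl
      rw [h4, Matrix.mulVec_mulVec, ← Matrix.mul_assoc, h1, Matrix.one_mul]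
      rfl
    have hmap : (LinearMap.range (AA b)).map σ ≤ LinearMap.range (AA b') := by
      rintro _ ⟨g, hg, rfl⟩
      obtain ⟨k1, k2⟩ := (mem_range hb g).1 hg
      rw [mem_range hb']
      refine ⟨fun x hx hx' => ?_, fun x hx hx' => ?_⟩
      · change eval x (S (A⁻¹ * A₁) g.1) = 0
        rw [eval_S]
        refine k1 _ ((hxs x 0).trans hx) fun i => ?_
        fin_cases i
        · exact (hxs x 1).trans (hx' 0)
        · exact (hxs x 2).trans (hx' 1)
      · change eval x (S (A⁻¹ * A₁) g.1) = 0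
        rw [eval_S]
        refine k2 _ ((hxs x 0).trans hx) fun i => ?_
        fin_cases i
        · exact (hxs x 3).trans (hx' 0)
        · exact (hxs x 4).trans (hx' 1)
    rw [(Submodule.equivMapOfInjective σ hσ (LinearMap.range (AA b))).finrank_eq]
    exact Submodule.finrank_mono hmap
  exact le_antisymm (key hb hb') (key hb' hb)

/-! ### the base -/

/-- two frames -/
abbrev FF (k : Type u) : Type u := ((Fin 5 → k) × (Fin 5 → k)) × ((Fin 5 → k) × (Fin 5 → k))

/-- target of the incidence equations -/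
abbrev TT (k : Type u) : Type u := (Fin 4 → k) × (Fin 2 → Fin 2 → k) × (Fin 2 → Fin 2 → k)

def fr4 (p : FF k) : Fin 4 → Fin 5 → k := ![p.1.1, p.1.2, p.2.1, p.2.2]
def fr2 (p : (Fin 5 → k) × (Fin 5 → k)) : Fin 2 → Fin 5 → k := ![p.1, p.2]

theorem fr4_add (p q : FF k) (a : Fin 4) : fr4 (p + q) a = fr4 p a + fr4 q a := by fin_cases a <;> rfl

theorem fr4_smul (c : k) (p : FF k) (a : Fin 4) : fr4 (c • p) a = c • fr4 p a := by fin_cases a <;> rfl

theorem fr2_add (p q : (Fin 5 → k) × (Fin 5 → k)) (a : Fin 2) : fr2 (p + q) a = fr2 p a + fr2 q a := by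
  fin_cases a <;> rfl

theorem fr2_smul (c : k) (p : (Fin 5 → k) × (Fin 5 → k)) (a : Fin 2) : fr2 (c • p) a = c • fr2 p a := by
  fin_cases a <;> rfl

/-- incidence equations -/
noncomputable def PP (p : FF k) : Bs k →ₗ[k] TT k where
  toFun b := (fun a => fr4 p a ⬝ᵥ b.1, fun i a => fr2 p.1 a ⬝ᵥ b.2.1 i, fun j a => fr2 p.2 a ⬝ᵥ b.2.2 j)
  map_add' b b' := by
    simp only [Prod.fst_add, Prod.snd_add, Pi.add_apply, dotProduct_add]
    rfl
  map_smul' c b := by
    simp only [Prod.smul_fst, Prod.smul_snd, Pi.smul_apply, dotProduct_smul]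
    rfl

theorem isPolyMap_PP (b : Bs k) : IsPolyMap k (fun p : FF k => PP p b) := by
  let L : FF k →ₗ[k] TT k :=
    { toFun := fun p => (fun a => fr4 p a ⬝ᵥ b.1, fun i a => fr2 p.1 a ⬝ᵥ b.2.1 i, fun j a => fr2 p.2 a ⬝ᵥ b.2.2 j)
      map_add' := fun p q => by
        simp only [Prod.fst_add, Prod.snd_add, fr4_add, fr2_add, add_dotProduct]
        rfl
      map_smul' := fun c p => by
        simp only [Prod.smul_fst, Prod.smul_snd, fr4_smul, fr2_smul, smul_dotProduct]
        rfl }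
  exact isPolyMap_linear L

theorem PP_surj {p : FF k} (h : LinearIndependent k (fr4 p)) : Function.Surjective (PP p) := by
  have h1 : LinearIndependent k (fr2 p.1) := by
    have := h.comp (![0, 1] : Fin 2 → Fin 4) (by decide)
    convert this using 1
    funext i
    fin_cases i <;> rfl
  have h2 : LinearIndependent k (fr2 p.2) := by
    have := h.comp (![2, 3] : Fin 2 → Fin 4) (by decide)
    convert this using 1
    funext i
    fin_cases i <;> rfl
  rintro ⟨α, β, γ⟩
  obtain ⟨x, hx⟩ := mulVec_surj h α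
  choose v hv using fun i : Fin 2 => mulVec_surj h1 (β i)
  choose y hy using fun i : Fin 2 => mulVec_surj h2 (γ i)
  exact ⟨(x, v, y), Prod.ext (funext fun a => congrFun hx a) (Prod.ext
    (funext fun i => funext fun a => congrFun (hv i) a) (funext fun i => funext fun a => congrFun (hy i) a))⟩

/-- pairs of skew frames -/
def F₀ (T : (Fin 5 → k) →ₗ[k] (Fin 5 → k) →ₗ[k] (Fin 5 → k) →ₗ[k] k) : Set (FF k) :=
  {p | (p.1 ∈ FR T ∧ p.2 ∈ FR T) ∧ LinearIndependent k (fr4 p)}

theorem irr_F₀ [IsAlgClosed k] [CharZero k] {T : (Fin 5 → k) →ₗ[k] (Fin 5 → k) →ₗ[k] (Fin 5 → k) →ₗ[k] k}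
    (hT : IsSym3 T) (hsm : SmoothOn T ⊤) : Irr k (F₀ T) := by
  have h1 := (frames_irr hT hsm).prod (frames_irr hT hsm)
  have h2 : IsZOpen k {p : FF k | LinearIndependent k (fr4 p)} := by
    have h := K713.RangeOpen.isZOpen_linearIndependent (k := k) (V := FF k) (W := Fin 5 → k) (r := 4)
      (fun a p => fr4 p a) (by
        intro a
        let L : FF k →ₗ[k] (Fin 5 → k) :=
          { toFun := fun p => fr4 p a
            map_add' := fun p q => fr4_add p q a
            map_smul' := fun c p => fr4_smul c p a }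
        exact isPolyMap_linear L)
    exact h
  refine h1.inter_open h2 ?_
  obtain ⟨W, M, N, M', L, -, hM, hN, -, -, -, -, -, hMN, -⟩ := K483.LineConf.exists_conf hT hsm
  obtain ⟨a, b, ha, hb, hab, hM'⟩ := K483.LineConf.exists_basis hM.1
  obtain ⟨a', b', ha', hb', hab', hN'⟩ := K483.LineConf.exists_basis hN.1
  refine ⟨((a, b), (a', b')), ⟨(isLine_span_iff hT hab).1 ?_, (isLine_span_iff hT hab').1 ?_⟩, ?_⟩
  · rw [← hM']; exact hM
  · rw [← hN']; exact hN
  · exact K483.LineConf.li_of_disj hMN ha hb ha' hb' hab hab'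

/-- `(h, v, y)` independent, `f` vanishes on both lines -/
def B₁ (f : Form 4 k 3) : Set (Bs k) :=
  {b | SkewB b ∧ (∀ x : Fin 5 → k, b.1 ⬝ᵥ x = 0 → (∀ i, b.2.1 i ⬝ᵥ x = 0) → eval x f.1 = 0) ∧
      (∀ x : Fin 5 → k, b.1 ⬝ᵥ x = 0 → (∀ j, b.2.2 j ⬝ᵥ x = 0) → eval x f.1 = 0)}

theorem pm_bv (i : Fin 2) : IsPolyMap k (fun b : Bs k => b.2.1 i) :=
  pm_comp (pm_proj i) (pm_comp isPolyMap_fst isPolyMap_snd)

theorem pm_by (i : Fin 2) : IsPolyMap k (fun b : Bs k => b.2.2 i) :=
  pm_comp (pm_proj i) (pm_comp isPolyMap_snd isPolyMap_snd)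

theorem isZOpen_skewB : IsZOpen k {b : Bs k | SkewB b} := by
  have h : {b : Bs k | SkewB b} = {b : Bs k | (Matrix.of (xs b)).det ≠ 0} := Set.ext fun b => skewB_iff b
  rw [h]
  have h1 : ∀ i, IsPolyMap k (fun b : Bs k => xs b i) := by
    intro i
    fin_cases i
    · exact isPolyMap_fst
    · exact pm_bv 0
    · exact pm_bv 1
    · exact pm_by 0
    · exact pm_by 1
  exact isZOpen_basic (isPolyFun_det fun i j => pf_apply5 (h1 i) j)

/-- the kernel of three independent forms is spanned by a frame -/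
theorem ker_eq_span {w : Fin 3 → Fin 5 → k} (hw : LinearIndependent k w) {a b : Fin 5 → k}
    (hab : LinearIndependent k ![a, b]) (ha : ∀ i, w i ⬝ᵥ a = 0) (hb : ∀ i, w i ⬝ᵥ b = 0) :
    LinearMap.ker (Matrix.of w).mulVecLin = Submodule.span k {a, b} := by
  have h3 : finrank k ↥(LinearMap.ker (Matrix.of w).mulVecLin) = 2 := by
    have h2 : 3 + finrank k ↥(LinearMap.ker (Matrix.of w).mulVecLin) = 5 := finrank_ker hw
    omega
  symm
  apply Submodule.eq_of_le_of_finrank_eq
  · rw [Submodule.span_le]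
    rintro x (rfl | rfl)
    · exact mem_ker.2 ha
    · exact mem_ker.2 hb
  · rw [h3]
    have := finrank_span_eq_card hab
    rwa [Matrix.range_cons, Matrix.range_cons, Matrix.range_empty, Set.union_empty,
      Set.singleton_union, Fintype.card_fin] at this

def wv (b : Bs k) : Fin 3 → Fin 5 → k := ![b.1, b.2.1 0, b.2.1 1]
def wy (b : Bs k) : Fin 3 → Fin 5 → k := ![b.1, b.2.2 0, b.2.2 1]

theorem SkewB.wv {b : Bs k} (h : SkewB b) : LinearIndependent k (wv b) := by
  have := h.indep.comp (![0, 1, 2] : Fin 3 → Fin 5) (by decide)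
  convert this using 1
  funext i
  fin_cases i <;> rfl

theorem SkewB.wy {b : Bs k} (h : SkewB b) : LinearIndependent k (wy b) := by
  have := h.indep.comp (![0, 3, 4] : Fin 3 → Fin 5) (by decide)
  convert this using 1
  funext i
  fin_cases i <;> rfl

theorem vanish_iff [CharZero k] {f : Form 4 k 3} {h : Fin 5 → k} {v : Fin 2 → Fin 5 → k}
    (hw : LinearIndependent k ![h, v 0, v 1]) {p : (Fin 5 → k) × (Fin 5 → k)}
    (hp : LinearIndependent k ![p.1, p.2]) (h1 : ∀ a, fr2 p a ⬝ᵥ h = 0) (h2 : ∀ i a, fr2 p a ⬝ᵥ v i = 0) :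
    (∀ x : Fin 5 → k, h ⬝ᵥ x = 0 → (∀ i, v i ⬝ᵥ x = 0) → eval x f.1 = 0) ↔ p ∈ FR (tri (n := 5) f.1) := by
  have hf : f.1.IsHomogeneous 3 := (mem_homogeneousSubmodule _ _).1 f.2
  have e0 : ∀ i, (![h, v 0, v 1] : Fin 3 → Fin 5 → k) i ⬝ᵥ p.1 = 0 := by
    intro i
    fin_cases i
    · exact (dotProduct_comm _ _).trans (h1 0)
    · exact (dotProduct_comm _ _).trans (h2 0 0)
    · exact (dotProduct_comm _ _).trans (h2 1 0)
  have e1 : ∀ i, (![h, v 0, v 1] : Fin 3 → Fin 5 → k) i ⬝ᵥ p.2 = 0 := by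
    intro i
    fin_cases i
    · exact (dotProduct_comm _ _).trans (h1 1)
    · exact (dotProduct_comm _ _).trans (h2 0 1)
    · exact (dotProduct_comm _ _).trans (h2 1 1)
  have hk := ker_eq_span hw hp e0 e1
  have hfr : finrank k ↥(Submodule.span k {p.1, p.2}) = 2 := by
    have := finrank_span_eq_card hp
    rwa [Matrix.range_cons, Matrix.range_cons, Matrix.range_empty, Set.union_empty,
      Set.singleton_union, Fintype.card_fin] at this
  rw [← isLine_span_iff (tri_sym (n := 5) f.1) hp]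
  constructor
  · intro hv
    refine ⟨hfr, fun u hu => ?_⟩
    rw [← hk] at hu
    have hu' := mem_ker.1 hu
    rw [tri_diag hf]
    refine hv u (hu' 0) fun i => ?_
    fin_cases i
    · exact hu' 1
    · exact hu' 2
  · rintro ⟨-, hl⟩ x hx hx'
    rw [← tri_diag hf]
    apply hl
    rw [← hk]
    refine mem_ker.2 fun i => ?_
    fin_cases i
    · exact hx
    · exact hx' 0
    · exact hx' 1

theorem irr_B₁ [IsAlgClosed k] [CharZero k] {f : Form 4 k 3} (hsm : SmoothOn (tri (n := 5) f.1) ⊤) :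
    Irr k (B₁ f) := by
  have hinf : Infinite k := IsAlgClosed.instInfinite
  have hF := irr_F₀ (tri_sym (n := 5) f.1) hsm
  have h1 := hF.of_linear (W := Bs k) (W' := TT k) PP isPolyMap_PP (fun _ => 0) (isPolyMap_const 0)
    (finrank k (TT k)) (fun p hp => by rw [LinearMap.range_eq_top.2 (PP_surj hp.2), finrank_top])
    (fun p _ => Submodule.zero_mem _)
  have h2 : IsZOpen k {q : FF k × Bs k | SkewB q.2} := zo_preimage isZOpen_skewB isPolyMap_snd
  have h3 := h1.inter_open h2 (by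
    obtain ⟨p, hp⟩ := hF.1
    -- complete the frames to a basis
    obtain ⟨w, hw⟩ : ∃ w : Fin 5 → k, w ∉ Submodule.span k (Set.range (fr4 p)) := by
      by_contra hcon
      push Not at hcon
      have h5 : Submodule.span k (Set.range (fr4 p)) = ⊤ := eq_top_iff.2 fun x _ => hcon x
      have h6 := finrank_span_eq_card hp.2
      rw [h5, finrank_top] at h6
      simp at h6
    have h5 : LinearIndependent k (Fin.cons w (fr4 p) : Fin 5 → Fin 5 → k) := linearIndependent_finCons.2 ⟨hp.2, hw⟩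
    obtain ⟨z, hz⟩ := exists_dual h5
    have e1 : ∀ b, p.1.1 ⬝ᵥ z b = if 1 = b then 1 else 0 := fun b => hz 1 b
    have e2 : ∀ b, p.1.2 ⬝ᵥ z b = if 2 = b then 1 else 0 := fun b => hz 2 b
    have e3 : ∀ b, p.2.1 ⬝ᵥ z b = if 3 = b then 1 else 0 := fun b => hz 3 b
    have e4 : ∀ b, p.2.2 ⬝ᵥ z b = if 4 = b then 1 else 0 := fun b => hz 4 b
    refine ⟨(p, (z 0, ![z 3, z 4], ![z 1, z 2])), ⟨hp, ?_⟩, ?_⟩
    · refine Prod.ext (funext fun a => ?_) (Prod.ext (funext fun i => funext fun a => ?_)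
        (funext fun i => funext fun a => ?_))
      · fin_cases a
        · exact (e1 0).trans (if_neg (by decide))
        · exact (e2 0).trans (if_neg (by decide))
        · exact (e3 0).trans (if_neg (by decide))
        · exact (e4 0).trans (if_neg (by decide))
      · fin_cases i <;> fin_cases a
        · exact (e1 3).trans (if_neg (by decide))
        · exact (e2 3).trans (if_neg (by decide))
        · exact (e1 4).trans (if_neg (by decide))
        · exact (e2 4).trans (if_neg (by decide))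
      · fin_cases i <;> fin_cases a
        · exact (e3 1).trans (if_neg (by decide))
        · exact (e4 1).trans (if_neg (by decide))
        · exact (e3 2).trans (if_neg (by decide))
        · exact (e4 2).trans (if_neg (by decide))
    · intro x hx hv hy
      have hz' : ∀ a b, z a ⬝ᵥ (Fin.cons w (fr4 p) : Fin 5 → Fin 5 → k) b = if a = b then 1 else 0 := fun a b => by
        rw [dotProduct_comm, hz]
        simp only [eq_comm]
      refine eq_zero_of_dot hz' fun a => ?_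
      fin_cases a
      · exact hx
      · exact hy 0
      · exact hy 1
      · exact hv 0
      · exact hv 1)
  have h4 := h3.image (isPolyMap_snd (k := k))
  convert h4 using 1
  ext b
  constructor
  · rintro ⟨hb, hv, hy⟩
    have k1 : finrank k ↥(LinearMap.ker (Matrix.of (wv b)).mulVecLin) = 2 := by
      have h2 : 3 + finrank k ↥(LinearMap.ker (Matrix.of (wv b)).mulVecLin) = 5 := finrank_ker hb.wv
      omega
    have k2 : finrank k ↥(LinearMap.ker (Matrix.of (wy b)).mulVecLin) = 2 := by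
      have h2 : 3 + finrank k ↥(LinearMap.ker (Matrix.of (wy b)).mulVecLin) = 5 := finrank_ker hb.wy
      omega
    obtain ⟨a₀, a₁, ha₀, ha₁, ha, -⟩ := K483.LineConf.exists_basis k1
    obtain ⟨c₀, c₁, hc₀, hc₁, hc, -⟩ := K483.LineConf.exists_basis k2
    have la₀ := mem_ker.1 ha₀
    have la₁ := mem_ker.1 ha₁
    have lc₀ := mem_ker.1 hc₀
    have lc₁ := mem_ker.1 hc₁
    have hdis : LinearMap.ker (Matrix.of (wv b)).mulVecLin ⊓ LinearMap.ker (Matrix.of (wy b)).mulVecLin = ⊥ := by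
      rw [eq_bot_iff]
      rintro x ⟨hx1, hx2⟩
      have l1 := mem_ker.1 hx1
      have l2 := mem_ker.1 hx2
      refine hb x (l1 0) (fun i => ?_) fun i => ?_
      · fin_cases i
        · exact l1 1
        · exact l1 2
      · fin_cases i
        · exact l2 1
        · exact l2 2
    have hind : LinearIndependent k (fr4 ((a₀, a₁), (c₀, c₁))) :=
      K483.LineConf.li_of_disj hdis ha₀ ha₁ hc₀ hc₁ ha hc
    have q1 : ∀ a, fr2 (a₀, a₁) a ⬝ᵥ b.1 = 0 := by
      intro a
      fin_cases a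
      · exact (dotProduct_comm _ _).trans (la₀ 0)
      · exact (dotProduct_comm _ _).trans (la₁ 0)
    have q2 : ∀ i a, fr2 (a₀, a₁) a ⬝ᵥ b.2.1 i = 0 := by
      intro i a
      fin_cases i <;> fin_cases a
      · exact (dotProduct_comm _ _).trans (la₀ 1)
      · exact (dotProduct_comm _ _).trans (la₁ 1)
      · exact (dotProduct_comm _ _).trans (la₀ 2)
      · exact (dotProduct_comm _ _).trans (la₁ 2)
    have q3 : ∀ a, fr2 (c₀, c₁) a ⬝ᵥ b.1 = 0 := by
      intro a
      fin_cases a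
      · exact (dotProduct_comm _ _).trans (lc₀ 0)
      · exact (dotProduct_comm _ _).trans (lc₁ 0)
    have q4 : ∀ i a, fr2 (c₀, c₁) a ⬝ᵥ b.2.2 i = 0 := by
      intro i a
      fin_cases i <;> fin_cases a
      · exact (dotProduct_comm _ _).trans (lc₀ 1)
      · exact (dotProduct_comm _ _).trans (lc₁ 1)
      · exact (dotProduct_comm _ _).trans (lc₀ 2)
      · exact (dotProduct_comm _ _).trans (lc₁ 2)
    refine ⟨(((a₀, a₁), (c₀, c₁)), b), ⟨⟨⟨⟨(vanish_iff hb.wv ha q1 q2).1 hv, (vanish_iff hb.wy hc q3 q4).1 hy⟩,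
      hind⟩, ?_⟩, hb⟩, rfl⟩
    refine Prod.ext (funext fun a => ?_) (Prod.ext (funext fun i => funext fun a => q2 i a)
      (funext fun i => funext fun a => q4 i a))
    fin_cases a
    · exact q1 0
    · exact q1 1
    · exact q3 0
    · exact q3 1
  · rintro ⟨⟨p, b'⟩, ⟨⟨⟨⟨hp1, hp2⟩, hp3⟩, hPP⟩, hb⟩, rfl⟩
    have c1 := congrFun (congrArg Prod.fst hPP)
    have c2 := congrArg Prod.snd hPP
    have c3 := congrArg Prod.fst c2
    have c4 := congrArg Prod.snd c2
    refine ⟨hb, (vanish_iff (p := p.1) hb.wv hp1.1 (fun a => ?_) fun i a => congrFun (congrFun c3 i) a).2 hp1,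
      (vanish_iff (p := p.2) hb.wy hp2.1 (fun a => ?_) fun i a => congrFun (congrFun c4 i) a).2 hp2⟩
    · fin_cases a
      · exact c1 0
      · exact c1 1
    · fin_cases a
      · exact c1 2
      · exact c1 3

/-! ### the main theorem -/

theorem irr_dec_skew [IsAlgClosed k] [CharZero k] {f : Form 4 k 3} (hsm : SmoothOn (tri (n := 5) f.1) ⊤) :
    Irr k {q : Dat k | H q = f ∧ Skew q} := by
  have hinf : Infinite k := IsAlgClosed.instInfinite
  have hfin : Module.Finite k (Form 4 k 3) := Groth.Agent.Lefpen.H703.NondegOpen.finite_form 4 3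
  have hB := irr_B₁ hsm
  obtain ⟨b₀, hb₀⟩ := hB.1
  have h := hB.of_linear (W := Fb k) (W' := Form 4 k 3) AA (fun w => by
      change IsPolyMap k (fun b : Bs k => LH k b.1 w.1 + ∑ i, ∑ j, t3 k (b.2.1 i) (w.2 i j) (b.2.2 j))
      exact pm_add (pm_LH isPolyMap_fst (isPolyMap_const _))
        (pm_sum' _ fun i _ => pm_sum' _ fun j _ => pm_t3 (pm_bv i) (isPolyMap_const _) (pm_by j)))
    (fun _ => f) (isPolyMap_const f) (finrank k ↥(LinearMap.range (AA b₀)))
    (fun b hb => finrank_AA hb.1 hb₀.1) (fun b hb => (mem_range hb.1 f).2 ⟨hb.2.1, hb.2.2⟩)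
  let L : Bs k × Fb k →ₗ[k] Dat k :=
    { toFun := fun q => (q.1.1, q.2.1, q.1.2.1, q.2.2, q.1.2.2)
      map_add' := fun q q' => rfl
      map_smul' := fun c q => rfl }
  have h2 := h.image (isPolyMap_linear L)
  convert h2 using 1
  ext q
  constructor
  · rintro ⟨hq, hs⟩
    have hs' : SkewB (q.1, q.2.2.1, q.2.2.2.2) := hs
    have hA : AA (q.1, q.2.2.1, q.2.2.2.2) (q.2.1, q.2.2.2.1) = f := hq
    obtain ⟨k1, k2⟩ := (mem_range hs' f).1 ⟨_, hA⟩
    exact ⟨((q.1, q.2.2.1, q.2.2.2.2), (q.2.1, q.2.2.2.1)), ⟨⟨hs', k1, k2⟩, hA⟩, rfl⟩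
  · rintro ⟨⟨b, w⟩, ⟨hb, hA⟩, rfl⟩
    exact ⟨hA, hb.1⟩

/-- **Irreducibility of the space of decompositions.** -/
theorem irr_dec [IsAlgClosed k] [CharZero k] {f : Form 4 k 3} (hsm : SmoothOn (tri (n := 5) f.1) ⊤) :
    Irr k (Dec f) :=
  (irr_dec_skew hsm).of_dense (fun q hq => hq.1) fun q hq O hO hmem => by
    obtain ⟨q', h1, h2, h3⟩ := leave hsm hq O hO hmem
    exact ⟨q', ⟨h2, h3⟩, h1⟩

theorem irr_dec' [IsAlgClosed k] [CharZero k] (f : Form 4 k 3) (hf : f ≠ 0) (hs : AlgebraicGeometry.Smooth (ps f)) :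
    Irr k (Dec f) :=
  irr_dec (Groth.Agent.Fano.K714.JacSm.smoothOn_tri f hf hs)

end K105.Sol4
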