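import Groth.Agent.Fano.K105.Sol4Tan
import Groth.Agent.Fano.K105.Near

/-!
# Decompositions `f = h Q + ∑ v_i P_ij y_j`: leaving the degenerate locus

`leave`: every decomposition of a smooth cubic threefold is a limit of decompositions with `h, v₀, v₁, y₀, y₁`
independent.
-/

set_option autoImplicit false

universe u

namespace K105.Sol4

open Module K656.Trilin K714.Surf LefPen Groth.Agent.Lefpen.H703.ZOpen K714.Irr MvPolynomial
  Groth.Agent.Fano.K714.Quart Groth.Agent.Fano.K714.Rat K324.QuartIrr K105.Sol4Alg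

variable {k : Type u} [Field k]

/-- `h, v₀, v₁, y₀, y₁` have no common zero -/
def Skew (q : Dat k) : Prop :=
  ∀ x : Fin 5 → k, q.1 ⬝ᵥ x = 0 → (∀ i, q.2.2.1 i ⬝ᵥ x = 0) → (∀ j, q.2.2.2.2 j ⬝ᵥ x = 0) → x = 0

/-! ### the differential in normal form -/

theorem DH_surj [IsAlgClosed k] [CharZero k] {f : Form 4 k 3} (hsm : SmoothOn (tri f.1) ⊤)
    {x z : Fin 5 → Fin 5 → k} (hz : ∀ a b, x a ⬝ᵥ z b = if a = b then 1 else 0) {c : k}
    {M : Fin 5 → Fin 5 → k} {P : Fin 2 → Fin 2 → Fin 5 → k} (hq : H (nf x c M P) = f) :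
    Function.Surjective (DH (nf x c M P)) := by
  rw [← LinearMap.range_eq_top]
  by_contra hne
  obtain ⟨φ, hφ0, hφ⟩ := Submodule.exists_le_ker_of_lt_top _ (lt_top_iff_ne_top.2 hne)
  refine hφ0 (tangent hsm hz hq φ (κ := 0) fun d => ?_).2
  rw [zero_mul]
  exact LinearMap.mem_ker.1 (hφ ⟨d, rfl⟩)

/-- the linear form `μ·z₃` -/
noncomputable def lam (z : Fin 5 → k) (c : k) : Dat k →ₗ[k] k where
  toFun d := (d.2.2.1 0 - d.2.2.2.2 0 + c • d.1) ⬝ᵥ z
  map_add' d d' := by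
    simp only [Prod.fst_add, Prod.snd_add, Pi.add_apply, smul_add, add_dotProduct, sub_dotProduct]
    ring
  map_smul' a d := by
    simp only [Prod.smul_fst, Prod.smul_snd, Pi.smul_apply, smul_dotProduct, add_dotProduct, sub_dotProduct,
      smul_eq_mul, RingHom.id_apply]
    ring

theorem exists_tangent [IsAlgClosed k] [CharZero k] {f : Form 4 k 3} (hsm : SmoothOn (tri f.1) ⊤)
    {x z : Fin 5 → Fin 5 → k} (hz : ∀ a b, x a ⬝ᵥ z b = if a = b then 1 else 0) {c : k}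
    {M : Fin 5 → Fin 5 → k} {P : Fin 2 → Fin 2 → Fin 5 → k} (hq : H (nf x c M P) = f) :
    ∃ d, DH (nf x c M P) d = 0 ∧ (d.2.2.1 0 - d.2.2.2.2 0 + c • d.1) ⬝ᵥ z 3 ≠ 0 := by
  have hfin : Module.Finite k (Form 4 k 3) := Groth.Agent.Lefpen.H703.NondegOpen.finite_form 4 3
  by_contra hcon
  push Not at hcon
  have h1 : lam (z 3) c ∈ (LinearMap.ker (DH (nf x c M P))).dualAnnihilator := by
    rw [Submodule.mem_dualAnnihilator]
    intro d hd
    exact hcon d (LinearMap.mem_ker.1 hd)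
  rw [← LinearMap.range_dualMap_eq_dualAnnihilator_ker] at h1
  obtain ⟨φ, hφ⟩ := h1
  have h2 := (tangent hsm hz hq φ (κ := 1) fun d => by
    rw [one_mul]
    exact LinearMap.congr_fun hφ d).1
  exact one_ne_zero h2

/-! ### leaving in normal form -/

theorem eq_zero_of_dot {x z : Fin 5 → Fin 5 → k} (hz : ∀ a b, x a ⬝ᵥ z b = if a = b then 1 else 0)
    {v : Fin 5 → k} (h : ∀ a, x a ⬝ᵥ v = 0) : v = 0 := by
  funext i
  rw [← ee_dot i v, expand hz (ee i), Fin.sum_univ_five]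
  simp only [add_dotProduct, smul_dotProduct, h, smul_zero, add_zero, Pi.zero_apply]

/-- the rows -/
def rows (c : k) (q : Dat k) : Fin 5 → Fin 5 → k :=
  ![q.1, q.2.2.1 0, q.2.2.1 1, q.2.2.2.2 0 - q.2.2.1 0 - c • q.1, q.2.2.2.2 1]

theorem skew_of_det {c : k} {q : Dat k} (h : (Matrix.of (rows c q)).det ≠ 0) : Skew q := by
  intro x h1 h2 h3
  refine Matrix.eq_zero_of_mulVec_eq_zero h ?_
  funext i
  fin_cases i
  · exact h1
  · exact h2 0
  · exact h2 1
  · change (q.2.2.2.2 0 - q.2.2.1 0 - c • q.1) ⬝ᵥ x = 0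
    rw [sub_dotProduct, sub_dotProduct, smul_dotProduct, h1, h2, h3]
    simp
  · exact h3 1

theorem pm_rows (c : k) (i : Fin 5) : IsPolyMap k (fun q : Dat k => rows c q i) := by
  fin_cases i
  · exact isPolyMap_fst
  · exact pm_v 0
  · exact pm_v 1
  · exact pm_sub (pm_sub (pm_y 0) (pm_v 0)) (pm_smul (isPolyFun_const c) isPolyMap_fst)
  · exact pm_y 1

theorem pf_apply5 {X : Type u} [AddCommGroup X] [Module k X] {φ : X → Fin 5 → k} (h : IsPolyMap k φ) (i : Fin 5) :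
    IsPolyFun k (fun x => φ x i) :=
  h (LinearMap.proj (R := k) (φ := fun _ : Fin 5 => k) i)

theorem leave_nf [IsAlgClosed k] [CharZero k] {f : Form 4 k 3} (hsm : SmoothOn (tri f.1) ⊤)
    {x z : Fin 5 → Fin 5 → k} (hz : ∀ a b, x a ⬝ᵥ z b = if a = b then 1 else 0) {c : k}
    {M : Fin 5 → Fin 5 → k} {P : Fin 2 → Fin 2 → Fin 5 → k} (hq : H (nf x c M P) = f)
    {O : Set (Dat k)} (hO : IsZOpen k O) (hmem : nf x c M P ∈ O) : ∃ q ∈ O, H q = f ∧ Skew q := by
  have hfin : Module.Finite k (Form 4 k 3) := Groth.Agent.Lefpen.H703.NondegOpen.finite_form 4 3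
  obtain ⟨d, hd, hd0⟩ := exists_tangent hsm hz hq
  have key := K105.Near.exists_near (k := k) (V := Dat k) (E := Form 4 k 3) (Φ := fun q => H q - f)
    (pm_sub pm_H (isPolyMap_const f)) (y₀ := nf x c M P) (by rw [hq, sub_self]) (DH (nf x c M P))
    (DH_surj hsm hz hq) (fun v => by
      obtain ⟨e₂, e₃, he⟩ := H_add (nf x c M P) v
      refine ⟨e₂, e₃, fun τ => ?_⟩
      rw [he, hq]
      abel) (δ := fun q => (Matrix.of (rows c q)).det)
    (isPolyFun_det fun i j => pf_apply5 (pm_rows c i) j) hd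
    (p := fun τ => (Matrix.of ![x 4 + τ • d.1, x 0 + τ • d.2.2.1 0, x 1 + τ • d.2.2.1 1,
      d.2.2.2.2 0 - d.2.2.1 0 - c • d.1, x 2 + τ • d.2.2.2.2 1]).det) ?_ ?_ ?_ hO hmem
  · obtain ⟨q, hqO, h1, h2⟩ := key
    exact ⟨q, hqO, sub_eq_zero.1 h1, skew_of_det h2⟩
  · refine isPolyFun_det fun i j => pf_apply5 (φ := fun τ : k => (Matrix.of ![x 4 + τ • d.1, x 0 + τ • d.2.2.1 0,
      x 1 + τ • d.2.2.1 1, d.2.2.2.2 0 - d.2.2.1 0 - c • d.1, x 2 + τ • d.2.2.2.2 1]) i) ?_ j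
    have hlin : ∀ a b : Fin 5 → k, IsPolyMap k (fun τ : k => a + τ • b) := fun a b =>
      pm_add (isPolyMap_const a) (pm_smul (isPolyMap_iff_isPolyFun.1 isPolyMap_id) (isPolyMap_const b))
    fin_cases i
    · exact hlin _ _
    · exact hlin _ _
    · exact hlin _ _
    · exact isPolyMap_const _
    · exact hlin _ _
  · intro τ
    let N : Matrix (Fin 5) (Fin 5) k := Matrix.of ![x 4 + τ • d.1, x 0 + τ • d.2.2.1 0,
      x 1 + τ • d.2.2.1 1, d.2.2.2.2 0 - d.2.2.1 0 - c • d.1, x 2 + τ • d.2.2.2.2 1]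
    have h1 : Matrix.of (rows c (nf x c M P + τ • d)) = N.updateRow 3 (τ • N 3) := by
      funext i
      fin_cases i
      · rfl
      · rfl
      · rfl
      · change Matrix.of (rows c (nf x c M P + τ • d)) 3 = N.updateRow 3 (τ • N 3) 3
        rw [Matrix.updateRow_self]
        change (x 0 + c • x 4 + τ • d.2.2.2.2 0) - (x 0 + τ • d.2.2.1 0) - c • (x 4 + τ • d.1) =
          τ • (d.2.2.2.2 0 - d.2.2.1 0 - c • d.1)
        module
      · rfl
    change (Matrix.of (rows c (nf x c M P + τ • d))).det = τ * N.det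
    rw [h1, Matrix.det_updateRow_smul, Matrix.updateRow_eq_self]
  · intro h0
    obtain ⟨v, hv0, hv⟩ := Matrix.exists_mulVec_eq_zero_iff.2 h0
    apply hv0
    have e4 : x 4 ⬝ᵥ v = 0 := by
      have := congrFun hv 0
      simpa [Matrix.mulVec] using this
    have e0 : x 0 ⬝ᵥ v = 0 := by
      have := congrFun hv 1
      simpa [Matrix.mulVec] using this
    have e1 : x 1 ⬝ᵥ v = 0 := by
      have := congrFun hv 2
      simpa [Matrix.mulVec] using this
    have e2 : x 2 ⬝ᵥ v = 0 := by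
      have := congrFun hv 4
      simpa [Matrix.mulVec] using this
    have eμ : (d.2.2.1 0 - d.2.2.2.2 0 + c • d.1) ⬝ᵥ v = 0 := by
      have h3 : (d.2.2.2.2 0 - d.2.2.1 0 - c • d.1) ⬝ᵥ v = 0 := congrFun hv 3
      have h4 : d.2.2.1 0 - d.2.2.2.2 0 + c • d.1 = -(d.2.2.2.2 0 - d.2.2.1 0 - c • d.1) := by abel
      rw [h4, neg_dotProduct, h3, neg_zero]
    have e3 : x 3 ⬝ᵥ v = 0 := by
      have h5 : d.2.2.1 0 - d.2.2.2.2 0 + c • d.1 = ∑ a, ((d.2.2.1 0 - d.2.2.2.2 0 + c • d.1) ⬝ᵥ z a) • x a :=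
        expand hz _
      rw [h5, Fin.sum_univ_five, add_dotProduct, add_dotProduct, add_dotProduct, add_dotProduct] at eμ
      simp only [smul_dotProduct, e0, e1, e2, e4, smul_zero, zero_add, add_zero] at eμ
      exact (smul_eq_zero.1 eμ).resolve_left hd0
    refine eq_zero_of_dot hz fun a => ?_
    fin_cases a
    · exact e0
    · exact e1
    · exact e2
    · exact e3
    · exact e4

/-! ### the action of `GL₂ × GL₂` -/

/-- change of basis in `v` -/
noncomputable def actV (A B : Matrix (Fin 2) (Fin 2) k) : Dat k →ₗ[k] Dat k where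
  toFun q := (q.1, q.2.1, fun i => ∑ a, A i a • q.2.2.1 a, fun i j => ∑ b, B b i • q.2.2.2.1 b j, q.2.2.2.2)
  map_add' q q' := by
    simp only [Prod.fst_add, Prod.snd_add, Pi.add_apply, smul_add, Finset.sum_add_distrib]
    rfl
  map_smul' c q := by
    simp only [Prod.smul_fst, Prod.smul_snd, Pi.smul_apply, RingHom.id_apply, smul_comm _ c, ← Finset.smul_sum]
    rfl

theorem actV_apply (A B : Matrix (Fin 2) (Fin 2) k) (q : Dat k) : actV A B q =
    (q.1, q.2.1, fun i => ∑ a, A i a • q.2.2.1 a, fun i j => ∑ b, B b i • q.2.2.2.1 b j, q.2.2.2.2) := rfl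

theorem sum_actV {A B : Matrix (Fin 2) (Fin 2) k} (h : B * A = 1) {W : Type*} [AddCommGroup W] [Module k W]
    (ψ : (Fin 5 → k) →ₗ[k] (Fin 5 → k) →ₗ[k] W) (v p : Fin 2 → Fin 5 → k) :
    ∑ i, ψ (∑ a, A i a • v a) (∑ b, B b i • p b) = ∑ i, ψ (v i) (p i) := by
  have h00 : B 0 0 * A 0 0 + B 0 1 * A 1 0 = 1 := by
    have := congrFun (congrFun h 0) 0
    simpa [Matrix.mul_apply, Fin.sum_univ_two] using this
  have h01 : B 0 0 * A 0 1 + B 0 1 * A 1 1 = 0 := by
    have := congrFun (congrFun h 0) 1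
    simpa [Matrix.mul_apply, Fin.sum_univ_two] using this
  have h10 : B 1 0 * A 0 0 + B 1 1 * A 1 0 = 0 := by
    have := congrFun (congrFun h 1) 0
    simpa [Matrix.mul_apply, Fin.sum_univ_two] using this
  have h11 : B 1 0 * A 0 1 + B 1 1 * A 1 1 = 1 := by
    have := congrFun (congrFun h 1) 1
    simpa [Matrix.mul_apply, Fin.sum_univ_two] using this
  simp only [Fin.sum_univ_two, map_add, map_smul, LinearMap.add_apply, LinearMap.smul_apply]
  linear_combination (norm := module) h00 • ψ (v 0) (p 0) + h01 • ψ (v 1) (p 0) + h10 • ψ (v 0) (p 1) +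
    h11 • ψ (v 1) (p 1)

theorem H_actV {A B : Matrix (Fin 2) (Fin 2) k} (h : B * A = 1) (q : Dat k) : H (actV A B q) = H q := by
  have key : ∀ j, ∑ i, t3 k (∑ a, A i a • q.2.2.1 a) (∑ b, B b i • q.2.2.2.1 b j) (q.2.2.2.2 j) =
      ∑ i, t3 k (q.2.2.1 i) (q.2.2.2.1 i j) (q.2.2.2.2 j) := by
    intro j
    have h1 := congrArg (fun g : (Fin 5 → k) →ₗ[k] Form 4 k 3 => g (q.2.2.2.2 j))
      (sum_actV h (t3 k) q.2.2.1 fun b => q.2.2.2.1 b j)
    simp only [LinearMap.sum_apply] at h1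
    exact h1
  rw [actV_apply]
  unfold H
  rw [Finset.sum_comm, Finset.sum_comm (f := fun i j => t3 k (q.2.2.1 i) (q.2.2.2.1 i j) (q.2.2.2.2 j))]
  simp only
  rw [Finset.sum_congr rfl fun j _ => key j]

theorem actV_actV {A B : Matrix (Fin 2) (Fin 2) k} (h : B * A = 1) (q : Dat k) :
    actV B A (actV A B q) = q := by
  have h1 : ∀ i a, ∑ b, B i b * A b a = if i = a then 1 else 0 := by
    intro i a
    have := congrFun (congrFun h i) a
    rw [Matrix.mul_apply, Matrix.one_apply] at this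
    exact this
  have key : ∀ (v : Fin 2 → Fin 5 → k) (i : Fin 2), ∑ b, B i b • ∑ a, A b a • v a = v i := by
    intro v i
    simp only [Finset.smul_sum, smul_smul]
    rw [Finset.sum_comm]
    simp only [← Finset.sum_smul, h1, ite_smul, one_smul, zero_smul, Finset.sum_ite_eq, Finset.mem_univ, if_true]
  have key' : ∀ (v : Fin 2 → Fin 5 → k) (i : Fin 2), ∑ b, A b i • ∑ a, B a b • v a = v i := by
    intro v i
    simp only [Finset.smul_sum, smul_smul]
    rw [Finset.sum_comm]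
    simp only [← Finset.sum_smul, mul_comm (A _ _), h1, ite_smul, one_smul, zero_smul, Finset.sum_ite_eq',
      Finset.mem_univ, if_true]
  rw [actV_apply, actV_apply]
  refine Prod.ext rfl (Prod.ext rfl (Prod.ext (funext fun i => key _ i) (Prod.ext (funext fun i => funext fun j =>
    key' (fun b => q.2.2.2.1 b j) i) rfl)))

theorem skew_actV {A B : Matrix (Fin 2) (Fin 2) k} (h : B * A = 1) {q : Dat k} (hq : Skew q) :
    Skew (actV A B q) := by
  intro x h1 h2 h3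
  refine hq x h1 (fun i => ?_) h3
  have h4 : q.2.2.1 i = ∑ b, B i b • (actV A B q).2.2.1 b := by
    conv_lhs => rw [← actV_actV h q]
    rfl
  rw [h4, Fin.sum_univ_two, add_dotProduct, smul_dotProduct, smul_dotProduct, h2, h2]
  simp

theorem skew_swap {q : Dat k} (hq : Skew q) : Skew (swap q) := fun x h1 h2 h3 => hq x h1 h3 h2

theorem pm_swap : IsPolyMap k (swap : Dat k → Dat k) := by
  let L : Dat k →ₗ[k] Dat k :=
    { toFun := swap
      map_add' := fun q q' => rfl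
      map_smul' := fun c q => rfl }
  exact isPolyMap_linear L

/-- limits of decompositions with `Skew` -/
def Lv (f : Form 4 k 3) (q : Dat k) : Prop := ∀ O : Set (Dat k), IsZOpen k O → q ∈ O → ∃ q' ∈ O, H q' = f ∧ Skew q'

theorem lv_of_actV {A B : Matrix (Fin 2) (Fin 2) k} (h : B * A = 1) (h' : A * B = 1) {f : Form 4 k 3} {q : Dat k}
    (hq : Lv f (actV A B q)) : Lv f q := by
  intro O hO hmem
  obtain ⟨q', h1, h2, h3⟩ := hq ((actV B A) ⁻¹' O) (zo_preimage hO (isPolyMap_linear _)) (by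
    rw [Set.mem_preimage, actV_actV h]
    exact hmem)
  exact ⟨actV B A q', h1, by rw [H_actV h', h2], skew_actV h' h3⟩

theorem lv_of_swap {f : Form 4 k 3} {q : Dat k} (hq : Lv f (swap q)) : Lv f q := by
  intro O hO hmem
  obtain ⟨q', h1, h2, h3⟩ := hq (swap ⁻¹' O) (zo_preimage hO pm_swap) hmem
  exact ⟨swap q', h1, by rw [H_swap, h2], skew_swap h3⟩

theorem exists_gl {α : Fin 2 → k} (h : α ≠ 0) :
    ∃ A B : Matrix (Fin 2) (Fin 2) k, B * A = 1 ∧ A * B = 1 ∧ ∀ a, A 0 a = α a := by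
  by_cases h0 : α 0 = 0
  · have h1 : α 1 ≠ 0 := fun h1 => h (funext fun i => by fin_cases i <;> assumption)
    have e1 : (!![α 0, α 1; 1, 0] : Matrix (Fin 2) (Fin 2) k) * !![0, 1; (α 1)⁻¹, -(α 0 * (α 1)⁻¹)] = 1 := by
      ext i j
      fin_cases i <;> fin_cases j <;> simp [Matrix.mul_apply, Fin.sum_univ_two, h1, h0]
    refine ⟨_, _, mul_eq_one_comm.1 e1, e1, fun a => ?_⟩
    fin_cases a <;> rfl
  · have e1 : (!![α 0, α 1; 0, 1] : Matrix (Fin 2) (Fin 2) k) * !![(α 0)⁻¹, -((α 0)⁻¹ * α 1); 0, 1] = 1 := by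
      ext i j
      fin_cases i <;> fin_cases j <;> simp [Matrix.mul_apply, Fin.sum_univ_two, h0]
    refine ⟨_, _, mul_eq_one_comm.1 e1, e1, fun a => ?_⟩
    fin_cases a <;> rfl

/-! ### independence -/

theorem indep_hv [IsAlgClosed k] [CharZero k] {f : Form 4 k 3} (hsm : SmoothOn (tri f.1) ⊤) {q : Dat k}
    (hq : H q = f) : LinearIndependent k ![q.1, q.2.2.1 0, q.2.2.1 1] := by
  rw [linearIndependent_iff_card_eq_finrank_span]
  by_contra hne
  have h1 : (Set.range ![q.1, q.2.2.1 0, q.2.2.1 1]).finrank k ≤ Fintype.card (Fin 3) :=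
    finrank_range_le_card (R := k) ![q.1, q.2.2.1 0, q.2.2.1 1]
  have h2 : (Set.range ![q.1, q.2.2.1 0, q.2.2.1 1]).finrank k ≤ 2 := by
    simp only [Fintype.card_fin] at h1 hne
    omega
  refine no_plane_eqs hsm ![q.1, q.2.2.1 0, q.2.2.1 1] h2 fun z hz => ?_
  have z0 : q.1 ⬝ᵥ z = 0 := hz 0
  have z1 : q.2.2.1 0 ⬝ᵥ z = 0 := hz 1
  have z2 : q.2.2.1 1 ⬝ᵥ z = 0 := hz 2
  rw [← hq, eval_H, z0, Fin.sum_univ_two, Fin.sum_univ_two, Fin.sum_univ_two, z1, z2]
  simp

theorem indep_hy [IsAlgClosed k] [CharZero k] {f : Form 4 k 3} (hsm : SmoothOn (tri f.1) ⊤) {q : Dat k}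
    (hq : H q = f) : LinearIndependent k ![q.1, q.2.2.2.2 0, q.2.2.2.2 1] :=
  indep_hv hsm (q := swap q) (by rw [H_swap, hq])

/-- the two lines are different -/
theorem indep_four [IsAlgClosed k] [CharZero k] {f : Form 4 k 3} (hsm : SmoothOn (tri f.1) ⊤) {q : Dat k}
    (hq : H q = f) {c : k} (hc : q.2.2.2.2 0 = q.2.2.1 0 + c • q.1) :
    LinearIndependent k ![q.1, q.2.2.1 0, q.2.2.1 1, q.2.2.2.2 1] := by
  rw [linearIndependent_iff_card_eq_finrank_span]
  by_contra hne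
  let w : Fin 4 → Fin 5 → k := ![q.1, q.2.2.1 0, q.2.2.1 1, q.2.2.2.2 1]
  have h1 : (Set.range w).finrank k ≤ Fintype.card (Fin 4) := finrank_range_le_card (R := k) w
  have h2 : (Set.range w).finrank k ≤ 3 := by
    simp only [Fintype.card_fin] at h1 hne
    change ¬ 4 = (Set.range w).finrank k at hne
    omega
  let L : (Fin 5 → k) →ₗ[k] (Fin 4 → k) := (Matrix.of w).mulVecLin
  have h3 : finrank k ↥(LinearMap.range L) ≤ 3 := by
    have h4 : (Matrix.of w).rank = finrank k ↥(Submodule.span k (Set.range w)) :=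
      Matrix.rank_eq_finrank_span_row (Matrix.of w)
    rw [Matrix.rank] at h4
    exact h4.le.trans h2
  have h4 := LinearMap.finrank_range_add_finrank_ker L
  have h5 : finrank k (Fin 5 → k) = 5 := by simp
  have h6 : 2 ≤ finrank k ↥(LinearMap.ker L) := by omega
  obtain ⟨v, hv⟩ := exists_linearIndependent_of_le_finrank h6
  have hv' : LinearIndependent k (fun i => (v i : Fin 5 → k)) :=
    hv.map' (Submodule.subtype _) (Submodule.ker_subtype _)
  obtain ⟨s, t, hst, h0⟩ := exists_quad_zero (qf q.2.1 (v 0))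
    (∑ a, ∑ b, q.2.1 a b * ((v 0 : Fin 5 → k) a * (v 1 : Fin 5 → k) b + (v 1 : Fin 5 → k) a * (v 0 : Fin 5 → k) b))
    (qf q.2.1 (v 1))
  have hmem : ∀ i, w i ⬝ᵥ (s • (v 0 : Fin 5 → k) + t • (v 1 : Fin 5 → k)) = 0 := by
    intro i
    have h7 := (s • v 0 + t • v 1).2
    rw [LinearMap.mem_ker] at h7
    exact congrFun h7 i
  have z0 : q.1 ⬝ᵥ _ = 0 := hmem 0
  have z1 : q.2.2.1 0 ⬝ᵥ _ = 0 := hmem 1
  have z2 : q.2.2.1 1 ⬝ᵥ _ = 0 := hmem 2
  have z3 : q.2.2.2.2 1 ⬝ᵥ _ = 0 := hmem 3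
  have z4 : q.2.2.2.2 0 ⬝ᵥ (s • (v 0 : Fin 5 → k) + t • (v 1 : Fin 5 → k)) = 0 := by
    rw [hc, add_dotProduct, smul_dotProduct, z1, z0]
    simp
  refine sing hsm hq (z := s • (v 0 : Fin 5 → k) + t • (v 1 : Fin 5 → k)) ?_ z0 ?_ ?_ ?_
  · intro h
    have h8 := Fintype.linearIndependent_iff.1 hv' ![s, t] (by
      rw [Fin.sum_univ_two]
      exact h)
    rcases hst with h9 | h9
    · exact h9 (h8 0)
    · exact h9 (h8 1)
  · have h9 : qf q.2.1 (s • (v 0 : Fin 5 → k) + t • (v 1 : Fin 5 → k)) = qf q.2.1 (v 0) * s ^ 2 +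
        (∑ a, ∑ b, q.2.1 a b * ((v 0 : Fin 5 → k) a * (v 1 : Fin 5 → k) b + (v 1 : Fin 5 → k) a * (v 0 : Fin 5 → k) b)) *
          s * t + qf q.2.1 (v 1) * t ^ 2 := by
      simp only [qf, Pi.add_apply, Pi.smul_apply, smul_eq_mul, Finset.sum_mul, ← Finset.sum_add_distrib]
      refine Finset.sum_congr rfl fun a _ => Finset.sum_congr rfl fun b _ => ?_
      ring
    rw [h9]
    exact h0
  · intro i
    fin_cases i
    · exact z1
    · exact z2
  · intro i
    rw [Fin.sum_univ_two, z3, z4]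
    simp

/-- normal form of a degenerate decomposition -/
theorem exists_basis [IsAlgClosed k] [CharZero k] {f : Form 4 k 3} (hsm : SmoothOn (tri f.1) ⊤) {q : Dat k}
    (hq : H q = f) {c : k} (hc : q.2.2.2.2 0 = q.2.2.1 0 + c • q.1) :
    ∃ (x : Fin 5 → Fin 5 → k) (z : Fin 5 → Fin 5 → k), (∀ a b, x a ⬝ᵥ z b = if a = b then 1 else 0) ∧
      q = nf x c q.2.1 q.2.2.2.1 := by
  have h4 := indep_four hsm hq hc
  obtain ⟨w, hw⟩ : ∃ w : Fin 5 → k, w ∉ Submodule.span k (Set.range ![q.1, q.2.2.1 0, q.2.2.1 1, q.2.2.2.2 1]) := by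
    by_contra hcon
    push Not at hcon
    have h5 : Submodule.span k (Set.range ![q.1, q.2.2.1 0, q.2.2.1 1, q.2.2.2.2 1]) = ⊤ :=
      eq_top_iff.2 fun x _ => hcon x
    have h6 := finrank_span_eq_card h4
    rw [h5, finrank_top] at h6
    simp at h6
  have h5 : LinearIndependent k ![w, q.1, q.2.2.1 0, q.2.2.1 1, q.2.2.2.2 1] := by
    have := linearIndependent_finCons.2 ⟨h4, hw⟩
    exact this
  let x : Fin 5 → Fin 5 → k := ![q.2.2.1 0, q.2.2.1 1, q.2.2.2.2 1, w, q.1]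
  have h6 : LinearIndependent k x := by
    have h7 := h5.comp (![2, 3, 4, 0, 1] : Fin 5 → Fin 5) (by decide)
    convert h7 using 1
    funext i
    fin_cases i <;> rfl
  obtain ⟨z, hz⟩ := exists_dual h6
  refine ⟨x, z, hz, ?_⟩
  refine Prod.ext rfl (Prod.ext rfl (Prod.ext (funext fun i => ?_) (Prod.ext rfl (funext fun j => ?_))))
  · fin_cases i <;> rfl
  · fin_cases j
    · exact hc
    · rfl

theorem leave [IsAlgClosed k] [CharZero k] {f : Form 4 k 3} (hsm : SmoothOn (tri f.1) ⊤) {q : Dat k}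
    (hq : H q = f) : Lv f q := by
  by_cases hs : Skew q
  · exact fun O hO hmem => ⟨q, hmem, hq, hs⟩
  -- the relation
  obtain ⟨w, hw0, hw⟩ : ∃ w : Fin 5 → k, w ≠ 0 ∧
      Matrix.vecMul w (Matrix.of ![q.1, q.2.2.1 0, q.2.2.1 1, q.2.2.2.2 0, q.2.2.2.2 1]) = 0 := by
    apply Matrix.exists_vecMul_eq_zero_iff.2
    by_contra hdet
    apply hs
    intro x h1 h2 h3
    refine Matrix.eq_zero_of_mulVec_eq_zero hdet ?_
    funext i
    fin_cases i
    · exact h1
    · exact h2 0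
    · exact h2 1
    · exact h3 0
    · exact h3 1
  have hrel : w 0 • q.1 + w 1 • q.2.2.1 0 + w 2 • q.2.2.1 1 + w 3 • q.2.2.2.2 0 + w 4 • q.2.2.2.2 1 = 0 := by
    rw [← hw]
    funext i
    simp [Matrix.vecMul, dotProduct, Fin.sum_univ_five]
  have hα : ![w 1, w 2] ≠ 0 := by
    intro h
    have e1 : w 1 = 0 := congrFun h 0
    have e2 : w 2 = 0 := congrFun h 1
    have h1 := Fintype.linearIndependent_iff.1 (indep_hy hsm hq) ![w 0, w 3, w 4] (by
      rw [e1, e2] at hrel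
      rw [Fin.sum_univ_three, ← hrel]
      simp)
    apply hw0
    funext i
    fin_cases i
    · exact h1 0
    · exact e1
    · exact e2
    · exact h1 1
    · exact h1 2
  have hβ : ![-w 3, -w 4] ≠ 0 := by
    intro h
    have e1 : w 3 = 0 := neg_eq_zero.1 (congrFun h 0)
    have e2 : w 4 = 0 := neg_eq_zero.1 (congrFun h 1)
    have h1 := Fintype.linearIndependent_iff.1 (indep_hv hsm hq) ![w 0, w 1, w 2] (by
      rw [e1, e2] at hrel
      rw [Fin.sum_univ_three, ← hrel]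
      simp)
    apply hw0
    funext i
    fin_cases i
    · exact h1 0
    · exact h1 1
    · exact h1 2
    · exact e1
    · exact e2
  obtain ⟨A, B, hBA, hAB, hA⟩ := exists_gl hα
  obtain ⟨A', B', hBA', hAB', hA'⟩ := exists_gl hβ
  refine lv_of_actV hBA hAB (lv_of_swap (lv_of_actV hBA' hAB' (lv_of_swap ?_)))
  set q₂ := swap (actV A' B' (swap (actV A B q))) with hq₂
  have hH : H q₂ = f := by rw [hq₂, H_swap, H_actV hBA', H_swap, H_actV hBA, hq]
  have hc : q₂.2.2.2.2 0 = q₂.2.2.1 0 + w 0 • q₂.1 := by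
    change ∑ b, A' 0 b • q.2.2.2.2 b = ∑ a, A 0 a • q.2.2.1 a + w 0 • q.1
    rw [Fin.sum_univ_two, Fin.sum_univ_two, hA, hA, hA', hA']
    change -w 3 • q.2.2.2.2 0 + -w 4 • q.2.2.2.2 1 = w 1 • q.2.2.1 0 + w 2 • q.2.2.1 1 + w 0 • q.1
    rw [← sub_eq_zero, ← neg_eq_zero, ← hrel]
    module
  obtain ⟨x, z, hz, he⟩ := exists_basis hsm hH hc
  rw [he]
  rw [he] at hH
  exact fun O hO hmem => leave_nf hsm hz hH hO hmem

end K105.Sol4
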