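import Groth.Agent.Fano.K105.Sol4Def

/-!
# Decompositions `f = h Q + ∑ v_i P_ij y_j`: linear functionals on the tangent space

`tangent`: at a decomposition in normal form (`h = x₄`, `v = (x₀, x₁)`, `y = (x₀ + c x₄, x₂)`) of a smooth cubic
threefold no functional `d ↦ κ (d v₀ - d y₀ + c d h)(z₃)` with `κ ≠ 0` factors over the differential of `H`, and the
differential is surjective.
-/

set_option autoImplicit false

universe u

namespace K105.Sol4

open Module K656.Trilin K714.Surf LefPen Groth.Agent.Lefpen.H703.ZOpen K714.Irr MvPolynomial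
  Groth.Agent.Fano.K714.Quart Groth.Agent.Fano.K714.Rat K324.QuartIrr K105.Sol4Alg

variable {k : Type u} [Field k]

/-! ### dual bases -/

theorem expand {x z : Fin 5 → Fin 5 → k} (hz : ∀ a b, x a ⬝ᵥ z b = if a = b then 1 else 0) (u : Fin 5 → k) :
    u = ∑ a, (u ⬝ᵥ z a) • x a := by
  classical
  have h1 : (Matrix.of x) * (Matrix.of z).transpose = 1 := by
    ext a b
    rw [Matrix.mul_apply, Matrix.one_apply]
    exact hz a b
  have h2 := mul_eq_one_comm.1 h1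
  funext i
  have h3 : Matrix.vecMul (Matrix.vecMul u (Matrix.of z).transpose) (Matrix.of x) = u := by
    rw [Matrix.vecMul_vecMul, h2, Matrix.vecMul_one]
  have h4 := congrFun h3 i
  rw [← h4, Finset.sum_apply]
  rfl

theorem exists_dual {x : Fin 5 → Fin 5 → k} (hx : LinearIndependent k x) :
    ∃ z : Fin 5 → Fin 5 → k, ∀ a b, x a ⬝ᵥ z b = if a = b then 1 else 0 := by
  classical
  have h5 : LinearIndependent k (Matrix.of x).row := hx
  have h6 : IsUnit (Matrix.of x) := Matrix.linearIndependent_rows_iff_isUnit.1 h5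
  have h7 : IsUnit (Matrix.of x).det := (Matrix.isUnit_iff_isUnit_det _).1 h6
  refine ⟨fun b => (Matrix.of x)⁻¹.transpose b, fun a b => ?_⟩
  have h8 := Matrix.mul_nonsing_inv (Matrix.of x) h7
  have h9 := congrFun (congrFun h8 a) b
  rw [Matrix.one_apply] at h9
  rw [← h9, Matrix.mul_apply]
  rfl

/-- the coefficients of a bilinear form in the dual basis -/
def mc (M : Fin 5 → Fin 5 → k) (z : Fin 5 → Fin 5 → k) (a b : Fin 5) : k := ∑ i, ∑ j, M i j * (z a i * z b j)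

theorem ee_dot (i : Fin 5) (z : Fin 5 → k) : ee i ⬝ᵥ z = z i := by
  classical
  rw [ee, single_dotProduct, one_mul]

theorem bilin_expand {W : Type*} [AddCommGroup W] [Module k W] {x z : Fin 5 → Fin 5 → k}
    (hz : ∀ a b, x a ⬝ᵥ z b = if a = b then 1 else 0) (M : Fin 5 → Fin 5 → k)
    (ψ : (Fin 5 → k) →ₗ[k] (Fin 5 → k) →ₗ[k] W) :
    ∑ i, ∑ j, M i j • ψ (ee i) (ee j) = ∑ a, ∑ b, mc M z a b • ψ (x a) (x b) := by
  have h1 : ∀ i j, ψ (ee i) (ee j) = ∑ a, ∑ b, (z a i * z b j) • ψ (x a) (x b) := by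
    intro i j
    have h2 : ψ (ee i) = ∑ a, z a i • ψ (x a) := by
      conv_lhs => rw [expand hz (ee i)]
      simp only [map_sum, map_smul, ee_dot]
    have h3 : ∀ a, ψ (x a) (ee j) = ∑ b, z b j • ψ (x a) (x b) := by
      intro a
      conv_lhs => rw [expand hz (ee j)]
      simp only [map_sum, map_smul, ee_dot]
    rw [h2, LinearMap.sum_apply]
    refine Finset.sum_congr rfl fun a _ => ?_
    rw [LinearMap.smul_apply, h3, Finset.smul_sum]
    exact Finset.sum_congr rfl fun b _ => smul_smul _ _ _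
  simp only [h1, mc, Finset.smul_sum, smul_smul, Finset.sum_smul]
  calc ∑ i, ∑ j, ∑ a, ∑ b, (M i j * (z a i * z b j)) • ψ (x a) (x b)
      = ∑ i, ∑ a, ∑ j, ∑ b, (M i j * (z a i * z b j)) • ψ (x a) (x b) :=
        Finset.sum_congr rfl fun i _ => Finset.sum_comm
    _ = ∑ a, ∑ i, ∑ j, ∑ b, (M i j * (z a i * z b j)) • ψ (x a) (x b) := Finset.sum_comm
    _ = ∑ a, ∑ i, ∑ b, ∑ j, (M i j * (z a i * z b j)) • ψ (x a) (x b) :=
        Finset.sum_congr rfl fun a _ => Finset.sum_congr rfl fun i _ => Finset.sum_comm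
    _ = ∑ a, ∑ b, ∑ i, ∑ j, (M i j * (z a i * z b j)) • ψ (x a) (x b) :=
        Finset.sum_congr rfl fun a _ => Finset.sum_comm

theorem LH_expand {x z : Fin 5 → Fin 5 → k} (hz : ∀ a b, x a ⬝ᵥ z b = if a = b then 1 else 0)
    (u : Fin 5 → k) (M : Fin 5 → Fin 5 → k) : LH k u M = ∑ a, ∑ b, mc M z a b • t3 k u (x a) (x b) :=
  bilin_expand hz M (t3 k u)

/-- the bilinear form `x ↦ (u ⬝ x) (v ⬝ x')` -/
def dotB (y y' : Fin 5 → k) : (Fin 5 → k) →ₗ[k] (Fin 5 → k) →ₗ[k] k :=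
  LinearMap.mk₂ k (fun u v => (u ⬝ᵥ y) * (v ⬝ᵥ y'))
    (fun u u' v => by rw [add_dotProduct, add_mul])
    (fun c u v => by simp only [smul_dotProduct, smul_eq_mul]; ring)
    (fun u v v' => by rw [add_dotProduct, mul_add])
    (fun c u v => by simp only [smul_dotProduct, smul_eq_mul]; ring)

theorem qf_expand {x z : Fin 5 → Fin 5 → k} (hz : ∀ a b, x a ⬝ᵥ z b = if a = b then 1 else 0)
    (M : Fin 5 → Fin 5 → k) (y : Fin 5 → k) :
    qf M y = ∑ a, ∑ b, mc M z a b * ((x a ⬝ᵥ y) * (x b ⬝ᵥ y)) := by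
  have h := bilin_expand hz M (dotB y y)
  simp only [dotB, LinearMap.mk₂_apply, ee_dot, smul_eq_mul] at h
  exact h

/-! ### the products of three linear forms span -/

theorem lin_sum {W : Type*} [AddCommMonoid W] [Module k W] (L : (Fin 5 → k) →ₗ[k] W) (x : Fin 5 → k) :
    L x = ∑ i, x i • L (ee i) := by
  classical
  have hx : x = ∑ i, x i • (ee i : Fin 5 → k) := by
    funext j
    simp [ee, Pi.single_apply, Finset.sum_apply]
  conv_lhs => rw [hx]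
  simp only [map_sum, map_smul]

theorem eq_sum_t3 [CharZero k] (g : Form 4 k 3) :
    g = ∑ i, ∑ j, ∑ l, tri g.1 (ee i) (ee j) (ee l) • t3 k (ee i) (ee j) (ee l) := by
  have hg : g.1.IsHomogeneous 3 := (mem_homogeneousSubmodule _ _).1 g.2
  have hinf : Infinite k := Infinite.of_injective (Nat.cast : ℕ → k) Nat.cast_injective
  refine Subtype.ext (MvPolynomial.funext (σ := Fin 5) fun (x : Fin 5 → k) => ?_)
  rw [← tri_diag hg]
  simp only [Submodule.coe_sum, Submodule.coe_smul, map_sum, MvPolynomial.smul_eval, eval_t3, ee_dot]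
  have e1 : tri (n := 5) g.1 x = ∑ i, x i • tri (n := 5) g.1 (ee i) :=
    lin_sum (tri (n := 5) g.1) x
  have e2 : ∀ i, tri (n := 5) g.1 (ee i) x = ∑ j, x j • tri (n := 5) g.1 (ee i) (ee j) :=
    fun i => lin_sum (tri (n := 5) g.1 (ee i)) x
  have e3 : ∀ i j, tri (n := 5) g.1 (ee i) (ee j) x = ∑ l, x l • tri (n := 5) g.1 (ee i) (ee j) (ee l) :=
    fun i j => lin_sum (tri (n := 5) g.1 (ee i) (ee j)) x
  rw [e1, LinearMap.sum_apply, LinearMap.sum_apply]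
  refine Finset.sum_congr rfl fun i _ => ?_
  rw [LinearMap.smul_apply, LinearMap.smul_apply, e2, LinearMap.sum_apply, Finset.smul_sum]
  refine Finset.sum_congr rfl fun j _ => ?_
  rw [LinearMap.smul_apply, e3, Finset.smul_sum, Finset.smul_sum]
  refine Finset.sum_congr rfl fun l _ => ?_
  simp only [smul_eq_mul]
  ring

theorem eq_zero_of_t3 [CharZero k] {x z : Fin 5 → Fin 5 → k}
    (hz : ∀ a b, x a ⬝ᵥ z b = if a = b then 1 else 0) (φ : Form 4 k 3 →ₗ[k] k)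
    (h : ∀ a b c, φ (t3 k (x a) (x b) (x c)) = 0) : φ = 0 := by
  have h1 : ∀ u v w, φ (t3 k u v w) = 0 := by
    intro u v w
    rw [expand hz u, expand hz v, expand hz w]
    simp only [map_sum, LinearMap.sum_apply, map_smul, LinearMap.smul_apply, h, smul_zero, Finset.sum_const_zero]
  ext g
  rw [eq_sum_t3 g]
  simp only [map_sum, map_smul, h1, smul_zero, Finset.sum_const_zero, LinearMap.zero_apply]

/-! ### functionals on the tangent space in normal form -/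

/-- decompositions in normal form -/
def nf (x : Fin 5 → Fin 5 → k) (c : k) (M : Fin 5 → Fin 5 → k) (P : Fin 2 → Fin 2 → Fin 5 → k) : Dat k :=
  (x 4, M, ![x 0, x 1], P, ![x 0 + c • x 4, x 2])

theorem LH_tensor (h u w : Fin 5 → k) : LH k h (fun a b => u a * w b) = t3 k h u w := by
  rw [LH_apply, lin_sum (t3 k h) u, LinearMap.sum_apply]
  refine Finset.sum_congr rfl fun i _ => ?_
  rw [LinearMap.smul_apply, lin_sum (t3 k h (ee i)) w, Finset.smul_sum]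
  exact Finset.sum_congr rfl fun j _ => (smul_smul _ _ _).symm

theorem DH_nf (x : Fin 5 → Fin 5 → k) (c : k) (M : Fin 5 → Fin 5 → k) (P : Fin 2 → Fin 2 → Fin 5 → k)
    (h : Fin 5 → k) (N : Fin 5 → Fin 5 → k) (v0 v1 p00 p01 p10 p11 y0 y1 : Fin 5 → k) :
    DH (nf x c M P) (h, N, ![v0, v1], ![![p00, p01], ![p10, p11]], ![y0, y1]) =
      LH k h M + LH k (x 4) N +
      (t3 k v0 (P 0 0) (x 0 + c • x 4) + t3 k (x 0) p00 (x 0 + c • x 4) + t3 k (x 0) (P 0 0) y0 +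
       (t3 k v0 (P 0 1) (x 2) + t3 k (x 0) p01 (x 2) + t3 k (x 0) (P 0 1) y1) +
       (t3 k v1 (P 1 0) (x 0 + c • x 4) + t3 k (x 1) p10 (x 0 + c • x 4) + t3 k (x 1) (P 1 0) y0 +
       (t3 k v1 (P 1 1) (x 2) + t3 k (x 1) p11 (x 2) + t3 k (x 1) (P 1 1) y1))) := by
  rw [DH_apply]
  simp only [Fin.sum_univ_two]
  rfl

theorem tangent [IsAlgClosed k] [CharZero k] {f : Form 4 k 3} (hsm : SmoothOn (tri f.1) ⊤)
    {x z : Fin 5 → Fin 5 → k} (hz : ∀ a b, x a ⬝ᵥ z b = if a = b then 1 else 0) {c : k}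
    {M : Fin 5 → Fin 5 → k} {P : Fin 2 → Fin 2 → Fin 5 → k} (hq : H (nf x c M P) = f)
    (φ : Form 4 k 3 →ₗ[k] k) {κ : k}
    (hφ : ∀ d : Dat k, φ (DH (nf x c M P) d) = κ * ((d.2.2.1 0 - d.2.2.2.2 0 + c • d.1) ⬝ᵥ z 3)) :
    κ = 0 ∧ φ = 0 := by
  obtain ⟨t, ht⟩ : ∃ t : Fin 5 → Fin 5 → Fin 5 → k, ∀ a b c, φ (t3 k (x a) (x b) (x c)) = t a b c :=
    ⟨_, fun _ _ _ => rfl⟩
  have ts12 : ∀ a b c, t a b c = t b a c := fun a b c => by rw [← ht, ← ht, t3_s12]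
  have ts23 : ∀ a b c, t a b c = t a c b := fun a b c => by rw [← ht, ← ht, t3_s23]
  have ts13 : ∀ a b c, t a b c = t c b a := fun a b c => by rw [← ht, ← ht, t3_s13]
  have mid : ∀ a v b, φ (t3 k (x a) v (x b)) = ∑ e, (v ⬝ᵥ z e) * t a e b := by
    intro a v b
    conv_lhs => rw [expand hz v]
    simp only [map_sum, LinearMap.sum_apply, map_smul, LinearMap.smul_apply, smul_eq_mul, ht]
  have hd : ∀ (h : Fin 5 → k) (N : Fin 5 → Fin 5 → k) (v0 v1 p00 p01 p10 p11 y0 y1 : Fin 5 → k), φ (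
      LH k h M + LH k (x 4) N +
      (t3 k v0 (P 0 0) (x 0 + c • x 4) + t3 k (x 0) p00 (x 0 + c • x 4) + t3 k (x 0) (P 0 0) y0 +
       (t3 k v0 (P 0 1) (x 2) + t3 k (x 0) p01 (x 2) + t3 k (x 0) (P 0 1) y1) +
       (t3 k v1 (P 1 0) (x 0 + c • x 4) + t3 k (x 1) p10 (x 0 + c • x 4) + t3 k (x 1) (P 1 0) y0 +
       (t3 k v1 (P 1 1) (x 2) + t3 k (x 1) p11 (x 2) + t3 k (x 1) (P 1 1) y1)))) =
      κ * ((v0 - y0 + c • h) ⬝ᵥ z 3) := by
    intro h N v0 v1 p00 p01 p10 p11 y0 y1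
    rw [← DH_nf]
    exact hφ _
  have C1 : ∀ u w, φ (t3 k (x 4) u w) = 0 := by
    intro u w
    have := hd 0 (fun a b => u a * w b) 0 0 0 0 0 0 0 0
    simpa [LH_tensor] using this
  have a4 : ∀ a b, t 4 a b = 0 := fun a b => by rw [← ht, C1]
  have b4 : ∀ a b, t a 4 b = 0 := fun a b => by rw [ts12, a4]
  have c4 : ∀ a b, t a b 4 = 0 := fun a b => by rw [ts13, a4]
  have a00 : ∀ a, t 0 a 0 = 0 := by
    intro a
    have := hd 0 0 0 0 (x a) 0 0 0 0 0
    simpa [ht, c4] using this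
  have a02 : ∀ a, t 0 a 2 = 0 := by
    intro a
    have := hd 0 0 0 0 0 (x a) 0 0 0 0
    simpa [ht, c4] using this
  have a10 : ∀ a, t 1 a 0 = 0 := by
    intro a
    have := hd 0 0 0 0 0 0 (x a) 0 0 0
    simpa [ht, c4] using this
  have a12 : ∀ a, t 1 a 2 = 0 := by
    intro a
    have := hd 0 0 0 0 0 0 0 (x a) 0 0
    simpa [ht, c4] using this
  have b00 : ∀ a, t 0 0 a = 0 := fun a => by rw [ts23, a00]
  have c00 : ∀ a, t a 0 0 = 0 := fun a => by rw [ts12, a00]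
  have b02 : ∀ a, t 2 a 0 = 0 := fun a => by rw [ts13, a02]
  have c02 : ∀ a, t 0 2 a = 0 := fun a => by rw [ts23, a02]
  have d02 : ∀ a, t 2 0 a = 0 := fun a => by rw [ts12, c02]
  have e02 : ∀ a, t a 0 2 = 0 := fun a => by rw [ts12, a02]
  have f02 : ∀ a, t a 2 0 = 0 := fun a => by rw [ts23, e02]
  have b10 : ∀ a, t 0 a 1 = 0 := fun a => by rw [ts13, a10]
  have c10 : ∀ a, t 1 0 a = 0 := fun a => by rw [ts23, a10]
  have d10 : ∀ a, t 0 1 a = 0 := fun a => by rw [ts12, c10]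
  have e10 : ∀ a, t a 1 0 = 0 := fun a => by rw [ts12, a10]
  have f10 : ∀ a, t a 0 1 = 0 := fun a => by rw [ts23, e10]
  have b12 : ∀ a, t 2 a 1 = 0 := fun a => by rw [ts13, a12]
  have c12 : ∀ a, t 1 2 a = 0 := fun a => by rw [ts23, a12]
  have d12 : ∀ a, t 2 1 a = 0 := fun a => by rw [ts12, c12]
  have e12 : ∀ a, t a 1 2 = 0 := fun a => by rw [ts12, a12]
  have f12 : ∀ a, t a 2 1 = 0 := fun a => by rw [ts23, e12]
  have n1 : t 3 0 3 = t 0 3 3 := ts12 _ _ _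
  have n2 : t 3 3 0 = t 0 3 3 := ts13 _ _ _
  have n3 : t 1 3 1 = t 1 1 3 := ts23 _ _ _
  have n4 : t 3 1 1 = t 1 1 3 := ts13 _ _ _
  have n5 : t 3 1 3 = t 1 3 3 := ts12 _ _ _
  have n6 : t 3 3 1 = t 1 3 3 := ts13 _ _ _
  have n7 : t 2 3 2 = t 2 2 3 := ts23 _ _ _
  have n8 : t 3 2 2 = t 2 2 3 := ts13 _ _ _
  have n9 : t 3 2 3 = t 2 3 3 := ts12 _ _ _
  have n10 : t 3 3 2 = t 2 3 3 := ts13 _ _ _
  -- the coefficients
  obtain ⟨m, hm⟩ : ∃ m : Fin 5 → Fin 5 → k, ∀ a b, mc M z a b = m a b := ⟨_, fun _ _ => rfl⟩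
  obtain ⟨p, hp⟩ : ∃ p : Fin 2 → Fin 2 → Fin 5 → k, ∀ i j a, P i j ⬝ᵥ z a = p i j a := ⟨_, fun _ _ _ => rfl⟩
  have C3 : ∀ e, ∑ a, ∑ b, m a b * t e a b = κ * (c * (x e ⬝ᵥ z 3)) := by
    intro e
    have := hd (x e) 0 0 0 0 0 0 0 0 0
    rw [LH_expand hz] at this
    simpa [ht, hm] using this
  have C40 : ∀ e, ∑ a, p 0 0 a * t e a 0 + c * ∑ a, p 0 0 a * t e a 4 + ∑ a, p 0 1 a * t e a 2 =
      κ * (x e ⬝ᵥ z 3) := by
    intro e
    have := hd 0 0 (x e) 0 0 0 0 0 0 0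
    simpa [mid, hp] using this
  have C41 : ∀ e, ∑ a, p 1 0 a * t e a 0 + c * ∑ a, p 1 0 a * t e a 4 + ∑ a, p 1 1 a * t e a 2 = 0 := by
    intro e
    have := hd 0 0 0 (x e) 0 0 0 0 0 0
    simpa [mid, hp] using this
  have C50 : ∀ e, ∑ a, p 0 0 a * t 0 a e + ∑ a, p 1 0 a * t 1 a e = - (κ * (x e ⬝ᵥ z 3)) := by
    intro e
    have := hd 0 0 0 0 0 0 0 0 (x e) 0
    simpa [mid, hp] using this
  have C51 : ∀ e, ∑ a, p 0 1 a * t 0 a e + ∑ a, p 1 1 a * t 1 a e = 0 := by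
    intro e
    have := hd 0 0 0 0 0 0 0 0 0 (x e)
    simpa [mid, hp] using this
  have q30 := C3 0
  have q31 := C3 1
  have q32 := C3 2
  have q33 := C3 3
  have q402 := C40 2
  have q403 := C40 3
  have q412 := C41 2
  have q413 := C41 3
  have q501 := C50 1
  have q503 := C50 3
  have q511 := C51 1
  have q513 := C51 3
  have k1 : (1 : Fin 5) ≠ 3 := by decide
  have k2 : (2 : Fin 5) ≠ 3 := by decide
  have k0 : (0 : Fin 5) ≠ 3 := by decide
  simp only [Fin.sum_univ_five, hz, a4, b4, c4, a00, b00, c00, a02, b02, c02, d02, e02, f02, a10, b10, c10, d10, e10,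
    f10, a12, b12, c12, d12, e12, f12, n1, n2, n3, n4, n5, n6, n7, n8, n9, n10, mul_zero, add_zero, zero_add,
    k0, k1, k2, if_true, if_false, mul_one, neg_zero] at q30 q31 q32 q33 q402 q403 q412 q413 q501 q503 q511 q513
  -- geometry
  have hinf : Infinite k := Infinite.of_injective (Nat.cast : ℕ → k) Nat.cast_injective
  have nz1 : NoZero ![m 2 2, m 2 3 + m 3 2, m 3 3] ![p 0 1 2, p 0 1 3] ![p 1 1 2, p 1 1 3] := by
    intro s r hsr h0 h1 h2
    simp only [Matrix.cons_val] at h0 h1 h2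
    have hx0 : x 0 ⬝ᵥ (s • z 2 + r • z 3) = 0 := by simp [dotProduct_add, hz]
    have hx1 : x 1 ⬝ᵥ (s • z 2 + r • z 3) = 0 := by simp [dotProduct_add, hz]
    have hx2 : x 2 ⬝ᵥ (s • z 2 + r • z 3) = s := by simp [dotProduct_add, hz]
    have hx3 : x 3 ⬝ᵥ (s • z 2 + r • z 3) = r := by simp [dotProduct_add, hz]
    have hx4 : x 4 ⬝ᵥ (s • z 2 + r • z 3) = 0 := by simp [dotProduct_add, hz]
    refine sing hsm hq (z := s • z 2 + r • z 3) ?_ hx4 ?_ ?_ ?_
    · intro h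
      rw [h, dotProduct_zero] at hx2 hx3
      rcases hsr with h | h
      · exact h hx2.symm
      · exact h hx3.symm
    · change qf M _ = 0
      rw [qf_expand hz]
      simp only [Fin.sum_univ_five, hm, hx0, hx1, hx2, hx3, hx4]
      linear_combination h0
    · intro i
      fin_cases i
      · exact hx0
      · exact hx1
    · have e1 : ∀ i, P i 1 ⬝ᵥ (s • z 2 + r • z 3) = p i 1 2 * s + p i 1 3 * r := by
        intro i
        rw [dotProduct_add, dotProduct_smul, dotProduct_smul, hp, hp, smul_eq_mul, smul_eq_mul]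
        ring
      have e2 : (x 0 + c • x 4) ⬝ᵥ (s • z 2 + r • z 3) = 0 := by
        rw [add_dotProduct, smul_dotProduct, hx0, hx4]; simp
      intro i
      rw [Fin.sum_univ_two]
      change (P i 0 ⬝ᵥ _) * ((x 0 + c • x 4) ⬝ᵥ _) + (P i 1 ⬝ᵥ _) * (x 2 ⬝ᵥ _) = 0
      rw [e1, e2, mul_zero, zero_add]
      fin_cases i
      · change (p 0 1 2 * s + p 0 1 3 * r) * _ = 0
        rw [h1, zero_mul]
      · change (p 1 1 2 * s + p 1 1 3 * r) * _ = 0
        rw [h2, zero_mul]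
  have nz2 : NoZero ![m 1 1, m 1 3 + m 3 1, m 3 3] ![p 1 0 1, p 1 0 3] ![p 1 1 1, p 1 1 3] := by
    intro s r hsr h0 h1 h2
    simp only [Matrix.cons_val] at h0 h1 h2
    have hx0 : x 0 ⬝ᵥ (s • z 1 + r • z 3) = 0 := by simp [dotProduct_add, hz]
    have hx1 : x 1 ⬝ᵥ (s • z 1 + r • z 3) = s := by simp [dotProduct_add, hz]
    have hx2 : x 2 ⬝ᵥ (s • z 1 + r • z 3) = 0 := by simp [dotProduct_add, hz]
    have hx3 : x 3 ⬝ᵥ (s • z 1 + r • z 3) = r := by simp [dotProduct_add, hz]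
    have hx4 : x 4 ⬝ᵥ (s • z 1 + r • z 3) = 0 := by simp [dotProduct_add, hz]
    refine sing' hsm hq (z := s • z 1 + r • z 3) ?_ hx4 ?_ ?_ ?_
    · intro h
      rw [h, dotProduct_zero] at hx1 hx3
      rcases hsr with h | h
      · exact h hx1.symm
      · exact h hx3.symm
    · change qf M _ = 0
      rw [qf_expand hz]
      simp only [Fin.sum_univ_five, hm, hx0, hx1, hx2, hx3, hx4]
      linear_combination h0
    · intro i
      fin_cases i
      · change (x 0 + c • x 4) ⬝ᵥ _ = 0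
        rw [add_dotProduct, smul_dotProduct, hx0, hx4]; simp
      · exact hx2
    · have e1 : ∀ j, P 1 j ⬝ᵥ (s • z 1 + r • z 3) = p 1 j 1 * s + p 1 j 3 * r := by
        intro i
        rw [dotProduct_add, dotProduct_smul, dotProduct_smul, hp, hp, smul_eq_mul, smul_eq_mul]
        ring
      intro j
      rw [Fin.sum_univ_two]
      change (P 0 j ⬝ᵥ _) * (x 0 ⬝ᵥ _) + (P 1 j ⬝ᵥ _) * (x 1 ⬝ᵥ _) = 0
      rw [e1, hx0, mul_zero, zero_add]
      fin_cases j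
      · change (p 1 0 1 * s + p 1 0 3 * r) * _ = 0
        rw [h1, zero_mul]
      · change (p 1 1 1 * s + p 1 1 3 * r) * _ = 0
        rw [h2, zero_mul]
  have m33 : m 3 3 ≠ 0 := by
    intro h
    have hx0 : x 0 ⬝ᵥ z 3 = 0 := by simp [hz]
    have hx1 : x 1 ⬝ᵥ z 3 = 0 := by simp [hz]
    have hx2 : x 2 ⬝ᵥ z 3 = 0 := by simp [hz]
    have hx3 : x 3 ⬝ᵥ z 3 = 1 := by simp [hz]
    have hx4 : x 4 ⬝ᵥ z 3 = 0 := by simp [hz]
    refine sing hsm hq (z := z 3) ?_ hx4 ?_ ?_ ?_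
    · intro h
      rw [h, dotProduct_zero] at hx3
      exact zero_ne_one hx3
    · rw [← hm] at h
      exact h
    · intro i
      fin_cases i
      · exact hx0
      · exact hx1
    · intro i
      rw [Fin.sum_univ_two]
      change (P i 0 ⬝ᵥ _) * ((x 0 + c • x 4) ⬝ᵥ _) + (P i 1 ⬝ᵥ _) * (x 2 ⬝ᵥ _) = 0
      rw [add_dotProduct, smul_dotProduct, hx0, hx2, hx4]
      simp
  have hpl : p 1 1 1 ≠ 0 ∨ p 1 1 2 ≠ 0 ∨ p 1 1 3 ≠ 0 := by
    by_contra hcon
    push Not at hcon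
    obtain ⟨h1, h2, h3⟩ := hcon
    refine no_plane_eqs hsm ![x 4, x 0] ?_ fun y hy => ?_
    · exact (finrank_range_le_card (R := k) ![x 4, x 0]).trans (by simp)
    · have y4 : x 4 ⬝ᵥ y = 0 := hy 0
      have y0 : x 0 ⬝ᵥ y = 0 := hy 1
      have e1 : P 1 1 ⬝ᵥ y = 0 := by
        rw [expand hz (P 1 1)]
        simp only [hp, Fin.sum_univ_five, add_dotProduct, smul_dotProduct, h1, h2, h3, y0, y4, smul_eq_mul]
        ring
      rw [← hq, eval_H]
      change (x 4 ⬝ᵥ y) * _ + _ = 0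
      rw [Fin.sum_univ_two, Fin.sum_univ_two, Fin.sum_univ_two]
      change (x 4 ⬝ᵥ y) * _ + ((x 0 ⬝ᵥ y) * _ * _ + (x 0 ⬝ᵥ y) * _ * _ +
        ((x 1 ⬝ᵥ y) * _ * ((x 0 + c • x 4) ⬝ᵥ y) + (x 1 ⬝ᵥ y) * (P 1 1 ⬝ᵥ y) * _)) = 0
      rw [add_dotProduct, smul_dotProduct, y4, y0, e1]
      simp
  have hA : t 0 3 3 = 0 := (mul_eq_zero.1 q30).resolve_left m33
  rw [hA] at q403 q413 q503 q513 q33
  have hκ : κ = 0 := by
    by_cases hb : p 1 1 2 ≠ 0 ∨ p 1 1 3 ≠ 0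
    · refine side_kappa (q := ![m 2 2, m 2 3 + m 3 2, m 3 3]) (a := ![p 0 1 2, p 0 1 3])
        (b := ![p 1 1 2, p 1 1 3]) (w₀ := t 2 2 2) (w₁ := t 2 2 3) (w₂ := t 2 3 3) m33 hb nz1 ?_ ?_ ?_ ?_ ?_
      · exact q412
      · change p 1 1 2 * t 2 2 3 + p 1 1 3 * t 2 3 3 = 0
        linear_combination q413
      · exact q402
      · change p 0 1 2 * t 2 2 3 + p 0 1 3 * t 2 3 3 = κ
        linear_combination q403
      · change m 2 2 * t 2 2 2 + (m 2 3 + m 3 2) * t 2 2 3 + m 3 3 * t 2 3 3 = 0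
        linear_combination q32
    · have hb' : p 1 1 1 ≠ 0 ∨ p 1 1 3 ≠ 0 := by
        push Not at hb
        rcases hpl with h | h | h
        · exact Or.inl h
        · exact absurd hb.1 h
        · exact absurd hb.2 h
      have h0 : -κ = 0 := by
        refine side_kappa (q := ![m 1 1, m 1 3 + m 3 1, m 3 3]) (a := ![p 1 0 1, p 1 0 3])
          (b := ![p 1 1 1, p 1 1 3]) (w₀ := t 1 1 1) (w₁ := t 1 1 3) (w₂ := t 1 3 3) m33 hb' nz2 ?_ ?_ ?_ ?_ ?_
        · exact q511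
        · change p 1 1 1 * t 1 1 3 + p 1 1 3 * t 1 3 3 = 0
          linear_combination q513
        · exact q501
        · change p 1 0 1 * t 1 1 3 + p 1 0 3 * t 1 3 3 = -κ
          linear_combination q503
        · change m 1 1 * t 1 1 1 + (m 1 3 + m 3 1) * t 1 1 3 + m 3 3 * t 1 3 3 = 0
          linear_combination q31
      exact neg_eq_zero.1 h0
  subst hκ
  obtain ⟨C1', C2', C3'⟩ := side_zero (q := ![m 2 2, m 2 3 + m 3 2, m 3 3]) (a := ![p 0 1 2, p 0 1 3])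
        (b := ![p 1 1 2, p 1 1 3]) (w₀ := t 2 2 2) (w₁ := t 2 2 3) (w₂ := t 2 3 3) nz1 q412
    (by change p 1 1 2 * t 2 2 3 + p 1 1 3 * t 2 3 3 = 0; linear_combination q413) q402
    (by change p 0 1 2 * t 2 2 3 + p 0 1 3 * t 2 3 3 = 0; linear_combination q403)
    (by change m 2 2 * t 2 2 2 + (m 2 3 + m 3 2) * t 2 2 3 + m 3 3 * t 2 3 3 = 0; linear_combination q32)
  obtain ⟨B1', B2', B3'⟩ := side_zero (q := ![m 1 1, m 1 3 + m 3 1, m 3 3]) (a := ![p 1 0 1, p 1 0 3])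
        (b := ![p 1 1 1, p 1 1 3]) (w₀ := t 1 1 1) (w₁ := t 1 1 3) (w₂ := t 1 3 3) nz2 q511
    (by change p 1 1 1 * t 1 1 3 + p 1 1 3 * t 1 3 3 = 0; linear_combination q513) q501
    (by change p 1 0 1 * t 1 1 3 + p 1 0 3 * t 1 3 3 = 0; linear_combination q503)
    (by change m 1 1 * t 1 1 1 + (m 1 3 + m 3 1) * t 1 1 3 + m 3 3 * t 1 3 3 = 0; linear_combination q31)
  have hE : t 3 3 3 = 0 := by
    rw [C2', C3', B2', B3'] at q33
    have : m 3 3 * t 3 3 3 = 0 := by linear_combination q33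
    exact (mul_eq_zero.1 this).resolve_left m33
  refine ⟨rfl, eq_zero_of_t3 hz φ fun a b c => ?_⟩
  rw [ht]
  fin_cases a <;> fin_cases b <;> fin_cases c <;>
    simp [a4, b4, c4, a00, b00, c00, a02, b02, c02, d02, e02, f02, a10, b10, c10, d10, e10,
    f10, a12, b12, c12, d12, e12, f12, n1, n2, n3, n4, n5, n6, n7, n8, n9, n10, hA, hE, B1', B2', B3', C1', C2', C3']

end K105.Sol4
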